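import Groth.Agent.VanLoc.Descend
import Groth.Agent.S2128

/-!
# The closed subscheme of vanishing
-/

set_option autoImplicit false
universe u

open CategoryTheory CategoryTheory.Limits AlgebraicGeometry TopologicalSpace Opposite

namespace Groth.Agent.VanLoc

theorem hasLocus_of_qcoh {A : Type u} [CommRing A] {Y : Scheme.{u}} (pA : Y ⟶ Spec (CommRingCat.of A))
    [IsProper pA] [LocallyOfFinitePresentation pA] {G F : Y.Modules} (hG : Coh.IsQCoh G)
    (hF : Coh.IsQCoh F) (hFp : CohB1.IsFP F) (hfl : FlatMod.IsFlatOver pA F) (σ : G ⟶ F) : HasLocus pA σ := by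
  haveI : CompactSpace Y := QuasiCompact.compactSpace_of_compactSpace pA
  haveI : QuasiSeparatedSpace Y := quasiSeparatedSpace_of_quasiSeparated pA
  obtain ⟨I, _, _, D, c, hc, hfp, rfl⟩ := S2128.result Y G hG
  choose J hJ using fun k => hasLocus_of_fp pA (QCoh.isQCoh_of_isFP (hfp k)) (hfp k) hF hFp hfl (c.ι.app k ≫ σ)
  refine ⟨⨆ k, J k, fun C _ _ Y' φ pC h => ?_⟩
  rw [iSup_le_iff]
  refine Iff.trans ?_ (forall_congr' fun k => hJ k C Y' φ pC h)
  haveI : PreservesColimitsOfSize.{u, u} (Scheme.Modules.pullback φ) :=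
    (Scheme.Modules.pullbackPushforwardAdjunction φ).leftAdjoint_preservesColimits
  refine ⟨fun hv k => ?_, fun hv => (isColimitOfPreserves (Scheme.Modules.pullback φ) hc).hom_ext fun k => ?_⟩
  · show (Scheme.Modules.pullback φ).map (c.ι.app k ≫ σ) = 0
    rw [Functor.map_comp, show (Scheme.Modules.pullback φ).map σ = 0 from hv, comp_zero]
  · show (Scheme.Modules.pullback φ).map (c.ι.app k) ≫ (Scheme.Modules.pullback φ).map σ =
      (Scheme.Modules.pullback φ).map (c.ι.app k) ≫ 0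
    rw [← Functor.map_comp, comp_zero]
    exact hv k

variable {Y S : Scheme.{u}} (q : Y ⟶ S) {G F : Y.Modules} (σ : G ⟶ F)

/-- Vanishing after the base change by `g`. -/
def VanAt {T : Scheme.{u}} (g : T ⟶ S) : Prop :=
  ∀ (Y' : Scheme.{u}) (φ : Y' ⟶ Y) (pT : Y' ⟶ T), IsPullback φ pT q g → Van σ φ

theorem vanAt_of_square {T Y' : Scheme.{u}} {g : T ⟶ S} {φ : Y' ⟶ Y} {pT : Y' ⟶ T} (h : IsPullback φ pT q g)
    (hv : Van σ φ) : VanAt q σ g := fun Y'' φ' pT' h' => by
  rw [show φ' = h.lift φ' pT' h'.w ≫ φ from (h.lift_fst _ _ _).symm]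
  exact hv.comp σ _

theorem vanAt_iff {T : Scheme.{u}} (g : T ⟶ S) : VanAt q σ g ↔ Van σ (pullback.fst q g) :=
  ⟨fun h => h _ _ _ (IsPullback.of_hasPullback q g), vanAt_of_square q σ (IsPullback.of_hasPullback q g)⟩

theorem VanAt.comp {T T' : Scheme.{u}} {g : T ⟶ S} (hv : VanAt q σ g) (f : T' ⟶ T) : VanAt q σ (f ≫ g) := by
  intro Y' φ pT h
  let u : Y' ⟶ pullback q g := pullback.lift φ (pT ≫ f) (by rw [Category.assoc]; exact h.w)
  rw [show φ = u ≫ pullback.fst q g from (pullback.lift_fst _ _ _).symm]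
  exact ((vanAt_iff q σ g).1 hv).comp σ u

theorem vanAt_of_openCover {T : Scheme.{u}} (g : T ⟶ S) (𝒰 : T.OpenCover) (h : ∀ k, VanAt q σ (𝒰.f k ≫ g)) :
    VanAt q σ g := by
  intro Y' φ pT hp
  exact van_of_openCover σ φ (𝒰.pullback₁ pT) fun k =>
    h k _ _ _ ((IsPullback.of_hasPullback pT (𝒰.f k)).paste_horiz hp)

theorem exists_locus_affine [IsProper q] [LocallyOfFinitePresentation q] (hG : Coh.IsQCoh G) (hF : CohB1.IsFP F)
    (hfl : FlatMod.IsFlatOver q F) {V : S.Opens} (hV : IsAffineOpen V) :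
    ∃ J : Ideal Γ(S, V), ∀ (C : CommRingCat.{u}) (ψ : Γ(S, V) ⟶ C),
      VanAt q σ (Spec.map ψ ≫ hV.fromSpec) ↔ J ≤ RingHom.ker ψ.hom := by
  let ι := (q ⁻¹ᵁ V).ι
  let pA : ((q ⁻¹ᵁ V : Y.Opens) : Scheme.{u}) ⟶ Spec (CommRingCat.of Γ(S, V)) := (q ∣_ V) ≫ hV.isoSpec.hom
  have hpA : IsPullback ι pA q hV.fromSpec := by
    refine (isPullback_morphismRestrict q V).flip.of_iso (Iso.refl _) (Iso.refl _) hV.isoSpec (Iso.refl _)
      ?_ ?_ ?_ ?_
    · simp [ι]
    · simp [pA]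
    · simp
    · rw [Iso.refl_hom, Category.comp_id, IsAffineOpen.isoSpec_hom_fromSpec]
  haveI : IsProper pA := MorphismProperty.comp_mem _ _ _
    (IsZariskiLocalAtTarget.restrict (P := @IsProper) inferInstance V) inferInstance
  haveI : LocallyOfFinitePresentation pA := MorphismProperty.comp_mem _ _ _
    (IsZariskiLocalAtTarget.restrict (P := @LocallyOfFinitePresentation) inferInstance V) inferInstance
  have hFq := QCoh.isQCoh_of_isFP hF
  have hfl' : FlatMod.IsFlatOver pA ((Scheme.Modules.pullback ι).obj F) :=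
    FlatBC5.isFlatOver_of_baseChange hpA hFq hfl
  obtain ⟨J, hJ⟩ := hasLocus_of_qcoh pA (QCoh.isQCoh_pullback ι hG) (QCoh.isQCoh_pullback ι hFq)
    (LimModLib.isFP_pullback ι hFq hF) hfl' ((Scheme.Modules.pullback ι).map σ)
  refine ⟨J, fun C ψ => ?_⟩
  letI : Algebra Γ(S, V) C := ψ.hom.toAlgebra
  have hp := IsPullback.of_hasPullback pA (Spec.map (CommRingCat.ofHom (algebraMap Γ(S, V) C)))
  have hbig := hp.paste_horiz hpA
  refine Iff.trans ?_ ((van_comp_iff σ ι _).trans (hJ C _ _ _ hp))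
  exact ⟨fun h => h _ _ _ hbig, vanAt_of_square q σ hbig⟩

theorem main [IsProper q] [LocallyOfFinitePresentation q] (hG : Coh.IsQCoh G) (hF : CohB1.IsFP F)
    (hfl : FlatMod.IsFlatOver q F) :
    ∃ (Z : Scheme.{u}) (i : Z ⟶ S), IsClosedImmersion i ∧ ∀ (T : Scheme.{u}) (g : T ⟶ S),
      ((∃ h : T ⟶ Z, h ≫ i = g) ↔ VanAt q σ g) := by
  choose J hJ using fun V : S.affineOpens => exists_locus_affine q σ hG hF hfl V.2
  have hcompat : ∀ (U : S.affineOpens) (f : Γ(S, U)),
      (J U).map (S.presheaf.map (homOfLE <| S.basicOpen_le f).op).hom = J (S.affineBasicOpen f) := by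
    intro U f
    let W := S.affineBasicOpen f
    let res := S.presheaf.map (homOfLE <| S.basicOpen_le f).op
    have key : ∀ K : Ideal Γ(S, W.1), J W ≤ K ↔ (J U).map res.hom ≤ K := fun K => by
      let mk := CommRingCat.ofHom (Ideal.Quotient.mk K)
      have h1 := hJ W (CommRingCat.of (Γ(S, W.1) ⧸ K)) mk
      have h2 := hJ U (CommRingCat.of (Γ(S, W.1) ⧸ K)) (res ≫ mk)
      have e : Spec.map (res ≫ mk) ≫ U.2.fromSpec = Spec.map mk ≫ W.2.fromSpec := by
        rw [Spec.map_comp, Category.assoc]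
        exact congrArg (Spec.map mk ≫ ·) (U.2.map_fromSpec W.2 _)
      have h3 : J W ≤ RingHom.ker mk.hom ↔ J U ≤ RingHom.ker (res ≫ mk).hom :=
        h1.symm.trans ((iff_of_eq (congrArg (VanAt q σ) e.symm)).trans h2)
      rw [Ideal.map_le_iff_le_comap]
      have e1 : RingHom.ker mk.hom = K := Ideal.mk_ker
      have e2 : RingHom.ker (res ≫ mk).hom = K.comap res.hom := by
        rw [CommRingCat.hom_comp, ← RingHom.comap_ker]
        exact congrArg (Ideal.comap res.hom) e1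
      rw [e1, e2] at h3
      exact h3
    exact le_antisymm ((key _).1 le_rfl) ((key _).2 le_rfl)
  let I : S.IdealSheafData := { ideal := J, map_ideal_basicOpen := hcompat }
  have hcov : ∀ U : S.affineOpens, I.subschemeCover.f U ≫ I.subschemeι =
      Spec.map (CommRingCat.ofHom (Ideal.Quotient.mk (J U))) ≫ U.2.fromSpec := fun U => by
    rw [I.subschemeCover_map_subschemeι]
    exact Category.assoc _ _ _
  refine ⟨I.subscheme, I.subschemeι, inferInstance, fun T g => ⟨?_, fun hg => ?_⟩⟩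
  · rintro ⟨h, rfl⟩
    refine VanAt.comp q σ (vanAt_of_openCover q σ _ I.subschemeCover.openCover fun U => ?_) h
    exact (congrArg (VanAt q σ) (hcov U)).mpr
      ((hJ U (CommRingCat.of (Γ(S, U.1) ⧸ J U)) (CommRingCat.ofHom (Ideal.Quotient.mk (J U)))).2
        (Ideal.mk_ker (I := J U)).ge)
  · -- lift locally, then glue
    have hloc : ∀ x : T, ∃ (W : T.affineOpens) (U : S.affineOpens), x ∈ W.1 ∧ W.1 ≤ g ⁻¹ᵁ U.1 := fun x => by
      obtain ⟨_, ⟨U, hU, rfl⟩, hxU, -⟩ :=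
        S.isBasis_affineOpens.exists_subset_of_mem_open (Set.mem_univ (g x)) isOpen_univ
      obtain ⟨_, ⟨W, hW, rfl⟩, hxW, hle⟩ :=
        T.isBasis_affineOpens.exists_subset_of_mem_open (show x ∈ g ⁻¹ᵁ U from hxU) (g ⁻¹ᵁ U).isOpen
      exact ⟨⟨W, hW⟩, ⟨U, hU⟩, hxW, hle⟩
    choose W U hxW hle using hloc
    let 𝒰 : T.OpenCover := T.openCoverOfIsOpenCover (fun x => (W x).1)
      (IsOpenCover.mk (eq_top_iff.2 fun x _ => Opens.mem_iSup.2 ⟨x, hxW x⟩))
    have hl : ∀ x, ∃ l : ((W x).1 : Scheme.{u}) ⟶ I.subscheme, l ≫ I.subschemeι = (W x).1.ι ≫ g := by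
      intro x
      let ψ := g.appLE (U x).1 (W x).1 (hle x)
      have hψ : Spec.map ψ ≫ (U x).2.fromSpec = (W x).2.fromSpec ≫ g :=
        IsAffineOpen.SpecMap_appLE_fromSpec g (U x).2 (W x).2 (hle x)
      have hker : J (U x) ≤ RingHom.ker ψ.hom := by
        rw [← hJ (U x), hψ]
        exact hg.comp q σ _
      refine ⟨(W x).2.isoSpec.hom ≫ Spec.map (CommRingCat.ofHom (Ideal.Quotient.lift (J (U x)) ψ.hom hker)) ≫
        I.subschemeCover.f (U x), ?_⟩
      rw [Category.assoc, Category.assoc]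
      refine (congrArg (fun t => (W x).2.isoSpec.hom ≫ Spec.map (CommRingCat.ofHom
        (Ideal.Quotient.lift (J (U x)) ψ.hom hker)) ≫ t) (hcov (U x))).trans ?_
      have e1 : Spec.map (CommRingCat.ofHom (Ideal.Quotient.lift (J (U x)) ψ.hom hker)) ≫
          Spec.map (CommRingCat.ofHom (Ideal.Quotient.mk (J (U x)))) = Spec.map ψ := by
        rw [← Spec.map_comp]
        exact congrArg Spec.map (CommRingCat.hom_ext (RingHom.ext fun _ => rfl))
      calc (W x).2.isoSpec.hom ≫ Spec.map (CommRingCat.ofHom (Ideal.Quotient.lift (J (U x)) ψ.hom hker)) ≫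
            Spec.map (CommRingCat.ofHom (Ideal.Quotient.mk (J (U x)))) ≫ (U x).2.fromSpec
          = (W x).2.isoSpec.hom ≫ Spec.map ψ ≫ (U x).2.fromSpec :=
            congrArg (_ ≫ ·) ((Category.assoc _ _ _).symm.trans (congrArg (· ≫ (U x).2.fromSpec) e1))
        _ = (W x).1.ι ≫ g := by rw [hψ, IsAffineOpen.isoSpec_hom_fromSpec_assoc]
    choose l hl using hl
    have hcompat' : ∀ x y, pullback.fst (𝒰.f x) (𝒰.f y) ≫ l x = pullback.snd (𝒰.f x) (𝒰.f y) ≫ l y := fun x y => by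
      rw [← cancel_mono I.subschemeι, Category.assoc, Category.assoc]
      refine (congrArg (pullback.fst (𝒰.f x) (𝒰.f y) ≫ ·) (hl x)).trans
        (Eq.trans ?_ (congrArg (pullback.snd (𝒰.f x) (𝒰.f y) ≫ ·) (hl y)).symm)
      exact (Category.assoc _ _ _).symm.trans
        ((congrArg (· ≫ g) (pullback.condition (f := 𝒰.f x) (g := 𝒰.f y))).trans (Category.assoc _ _ _))
    refine ⟨𝒰.glueMorphisms l hcompat', 𝒰.hom_ext _ _ fun x => ?_⟩
    exact ((Category.assoc _ _ _).symm.trans (congrArg (· ≫ I.subschemeι) (𝒰.ι_glueMorphisms l hcompat' x))).trans (hl x)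

end Groth.Agent.VanLoc
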