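import Groth.Agent.VanLoc.Proper
import Groth.Agent.FlatPt5.Descent
import Groth.Agent.ConsPropLib.CoreProper
import Groth.Agent.LimModLib.HomDescend
import Groth.Agent.LimModLib.FlatStage

/-!
# The vanishing locus over an affine base, by reduction to the Noetherian case
-/

set_option autoImplicit false
set_option maxHeartbeats 800000
universe u

open CategoryTheory CategoryTheory.Limits AlgebraicGeometry TopologicalSpace Opposite

namespace Groth.Agent.VanLoc

open ConsPropLib MorLib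

theorem van_congr_iso {Y Y' : Scheme.{u}} {G G' F F' : Y.Modules} (σ : G ⟶ F) (τ : G' ⟶ F') (a : G ≅ G') (b : F' ≅ F)
    (h : σ = a.hom ≫ τ ≫ b.hom) (φ : Y' ⟶ Y) : Van σ φ ↔ Van τ φ := by
  show (Scheme.Modules.pullback φ).map σ = 0 ↔ (Scheme.Modules.pullback φ).map τ = 0
  rw [h, Functor.map_comp, Functor.map_comp, ← Functor.mapIso_hom, ← Functor.mapIso_hom]
  refine ⟨fun h' => ?_, fun h' => by rw [h', zero_comp, comp_zero]⟩
  rw [← cancel_epi ((Scheme.Modules.pullback φ).mapIso a).hom,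
    ← cancel_mono ((Scheme.Modules.pullback φ).mapIso b).hom, Category.assoc, h']
  simp

theorem eq_conj_of_eq {C : Type*} [Category C] {G G₁ G₂ F₂ F₁ F : C} (a : G₁ ≅ G) (t : G₂ ≅ G₁) (P : G₂ ⟶ F₂)
    (t' : F₂ ≅ F₁) (b : F₁ ≅ F) (σ : G ⟶ F) (h : t.inv ≫ P ≫ t'.hom = a.hom ≫ σ ≫ b.inv) :
    σ = (a.symm ≪≫ t.symm).hom ≫ P ≫ (t' ≪≫ b).hom := by
  simp only [Iso.trans_hom, Iso.symm_hom, Category.assoc, reassoc_of% h, Iso.inv_hom_id, Category.comp_id,
    Iso.inv_hom_id_assoc]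

theorem hasLocus_of_fp {A : Type u} [CommRing A] {Y : Scheme.{u}} (pA : Y ⟶ Spec (CommRingCat.of A))
    [IsProper pA] [LocallyOfFinitePresentation pA] {G F : Y.Modules} (hG : Coh.IsQCoh G) (hGp : CohB1.IsFP G)
    (hF : Coh.IsQCoh F) (hFp : CohB1.IsFP F) (hfl : FlatMod.IsFlatOver pA F) (σ : G ⟶ F) : HasLocus pA σ := by
  classical
  let R := CommRingCat.of A
  obtain ⟨i, Xi, fi, g, Fi, hm, hFiq, hFip, ⟨eF⟩⟩ := FlatPt5.exists_subring_model (A := R) pA F hF hFp
  haveI := hm.lfp; haveI := hm.qc; haveI := hm.qs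
  haveI : ∀ {a b : (Finset R)ᵒᵖ} (r : a ⟶ b), IsAffineHom ((NoethApprox.diagram R).map r) := fun r => inferInstance
  have hc := NoethApprox.isLimit R
  let D := NoethApprox.diagram R
  let c := NoethApprox.cone R
  let DX := BC.diag D fi
  let cX := BC.cone D fi (c := c) hm.sq
  have hcX : IsLimit cX := BC.isLimitCone D fi (c := c) hm.sq hc
  haveI : CompactSpace Xi := hm.compactSpace
  haveI : QuasiSeparatedSpace Xi := hm.quasiSeparatedSpace
  let T : Over i := Over.mk (𝟙 i)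
  -- a model of `G`
  haveI : CompactSpace (DX.obj T) := BC.compactSpace_obj D fi T
  haveI : QuasiSeparatedSpace (DX.obj T) := BC.quasiSeparatedSpace_obj D fi T
  haveI : Coh.IsQCoh (X := cX.pt) G := hG
  obtain ⟨j, -, Gj, hGjq, hGjp, ⟨eG⟩⟩ := S4788.result DX cX hcX T G hGp
  haveI : CompactSpace (DX.obj j) := BC.compactSpace_obj D fi j
  haveI : QuasiSeparatedSpace (DX.obj j) := BC.quasiSeparatedSpace_obj D fi j
  let Fj := (Scheme.Modules.pullback (pullback.fst fi (D.map j.hom))).obj Fi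
  let eFj : (Scheme.Modules.pullback (cX.π.app j)).obj Fj ≅ F := (FlatPt5.stageIso (c := c) hm.sq j).app Fi ≪≫ eF
  -- a model of `σ`
  obtain ⟨k, hk, hhk⟩ := LimModLib.exists_hom_descend (D := DX) (c := cX) (i := j) hcX hGjq hGjp
    (QCoh.isQCoh_pullback _ hFiq) (eG.hom ≫ σ ≫ eFj.inv)
  -- flatness and properness
  obtain ⟨j₁, φ₁, hj₁⟩ := (LimModLib.isFlatOver_iff_eventually (c := c) hc fi hFiq hFip hm.sq).1
    (LimModLib.isFlatOver_of_iso pA eF.symm hfl)
  haveI : ∀ a, IsAffine (D.obj a) := fun a => NoethApprox.isAffine_obj R a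
  obtain ⟨j₂, φ₂, hj₂⟩ := Desc.descend D c hc i (P := @IsProper) (Q := @LocallyOfFinitePresentation) core_isProper fi
    inferInstance (Desc.of_two @IsProper hm.sq (IsPullback.of_hasPullback _ _) (show IsProper pA from inferInstance))
  obtain ⟨l', α, β, -⟩ := IsCofilteredOrEmpty.cone_objs k.left.left j₁
  obtain ⟨l, α', γ, -⟩ := IsCofilteredOrEmpty.cone_objs l' j₂
  let ql : l ⟶ i := α' ≫ α ≫ k.left.hom
  let L : Over i := Over.mk ql
  let ψ : L ⟶ k.left := Over.homMk (α' ≫ α) (by simp [L, ql])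
  let f₀ : DX.obj L ⟶ D.obj l := pullback.snd fi (D.map ql)
  let F₀ : (DX.obj L).Modules := (Scheme.Modules.pullback (DX.map ψ)).obj
    ((Scheme.Modules.pullback (DX.map k.hom)).obj Fj)
  let G₀ : (DX.obj L).Modules := (Scheme.Modules.pullback (DX.map ψ)).obj
    ((Scheme.Modules.pullback (DX.map k.hom)).obj Gj)
  let σ₀ : G₀ ⟶ F₀ := (Scheme.Modules.pullback (DX.map ψ)).map hk
  have e₀ : F₀ ≅ (Scheme.Modules.pullback (pullback.fst fi (D.map ql))).obj Fi :=
    (Scheme.Modules.pullback (DX.map ψ)).mapIso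
        ((Scheme.Modules.pullbackComp (DX.map k.hom) (pullback.fst fi (D.map j.hom)) ≪≫
          Scheme.Modules.pullbackCongr (BC.map_fst D fi k.hom)).app Fi) ≪≫
      (Scheme.Modules.pullbackComp (DX.map ψ) (pullback.fst fi (D.map k.left.hom)) ≪≫
          Scheme.Modules.pullbackCongr (BC.map_fst D fi ψ)).app Fi
  have hprop : IsProper f₀ :=
    Desc.of_factor @IsProper hj₂ (a := D.map γ) (by rw [← D.map_comp]; exact congrArg D.map (Subsingleton.elim _ _))
      (IsPullback.of_hasPullback _ _)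
  have hflat : FlatMod.IsFlatOver f₀ F₀ :=
    LimModLib.isFlatOver_of_iso f₀ e₀.symm (LimModLib.isFlatOver_of_stage fi hFiq φ₁ (D.map (α' ≫ β))
      (by rw [← D.map_comp]; exact congrArg D.map (Subsingleton.elim _ _)) (IsPullback.of_hasPullback _ _) hj₁)
  let A₀ := Algebra.adjoin ℤ ((l.unop : Finset A) : Set A)
  haveI : IsNoetherianRing ↥A₀ := by
    haveI : Algebra.FiniteType ℤ ↥A₀ := (Subalgebra.fg_iff_finiteType A₀).1 (Subalgebra.fg_adjoin_finset _)
    exact Algebra.FiniteType.isNoetherianRing ℤ ↥A₀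
  let p₀ : DX.obj L ⟶ Spec (CommRingCat.of ↥A₀) := f₀
  haveI : IsProper p₀ := hprop
  haveI : IsLocallyNoetherian (DX.obj L) := LocallyOfFiniteType.isLocallyNoetherian p₀
  have hFcoh : Coh.IsCoh F₀ := QCoh.isCoh_iff_isFP.2 (LimModLib.isFP_pullback _
    (QCoh.isQCoh_pullback _ (QCoh.isQCoh_pullback _ hFiq))
    (LimModLib.isFP_pullback _ (QCoh.isQCoh_pullback _ hFiq) (LimModLib.isFP_pullback _ hFiq hFip)))
  obtain ⟨J₀, hJ₀⟩ := hasLocus_of_noetherian p₀ σ₀ (QCoh.isQCoh_pullback _ (QCoh.isQCoh_pullback _ hGjq))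
    hFcoh hflat
  refine ⟨J₀.map A₀.val.toRingHom, fun C _ _ Y' φ pC h => ?_⟩
  letI : Algebra ↥A₀ C := ((algebraMap A C).comp A₀.val.toRingHom).toAlgebra
  let q : Y ⟶ DX.obj L := BC.proj D fi (c := c) hm.sq L
  have hq : IsPullback q pA p₀ (Spec.map (CommRingCat.ofHom A₀.val.toRingHom)) :=
    BC.isPullback_proj D fi (c := c) hm.sq L
  have h₀ : IsPullback (φ ≫ q) pC p₀ (Spec.map (CommRingCat.ofHom (algebraMap ↥A₀ C))) := by
    have := h.paste_horiz hq
    rwa [← Spec.map_comp, ← CommRingCat.ofHom_comp] at this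
  refine Iff.trans ?_ ((hJ₀ C Y' (φ ≫ q) pC h₀).trans ?_)
  · -- `σ` is the inverse image of `σ₀`
    have hσ : σ = (eG.symm ≪≫ ((Scheme.Modules.pullbackComp (cX.π.app k.left) (DX.map k.hom) ≪≫
            Scheme.Modules.pullbackCongr (cX.w k.hom)).app Gj).symm).hom ≫
        (Scheme.Modules.pullback (cX.π.app k.left)).map hk ≫
          (((Scheme.Modules.pullbackComp (cX.π.app k.left) (DX.map k.hom) ≪≫
            Scheme.Modules.pullbackCongr (cX.w k.hom)).app Fj) ≪≫ eFj).hom := by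
      exact eq_conj_of_eq eG _ _ _ eFj σ hhk
    have e : cX.π.app k.left = q ≫ DX.map ψ := (cX.w ψ).symm
    refine (van_congr_iso σ _ _ _ hσ φ).trans ((van_comp_iff hk (cX.π.app k.left) φ).symm.trans ?_)
    refine Iff.trans ?_ (van_comp_iff hk (DX.map ψ) (φ ≫ q))
    exact iff_of_eq (congrArg (Van hk) ((congrArg (φ ≫ ·) e).trans (Category.assoc φ q (DX.map ψ)).symm))
  · rw [Ideal.map_le_iff_le_comap]
    exact Iff.rfl

end Groth.Agent.VanLoc
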