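import Mathlib

/-!
# Ideals modulo which a set of elements of flat modules vanishes
-/

set_option autoImplicit false
universe u

open TensorProduct

namespace Groth.Agent.VanLoc

variable {A : Type u} [CommRing A] {ι : Type u} {N : ι → Type u} [∀ i, AddCommGroup (N i)]
  [∀ i, Module A (N i)] (X : ∀ i, Set (N i))

/-- The elements lie in `K N`. -/
def Good (K : Ideal A) : Prop := ∀ i, ∀ x ∈ X i, x ∈ K • (⊤ : Submodule A (N i))

variable (A) in
/-- The elements vanish after the change of rings to `C`. -/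
def Vanish (C : Type u) [CommRing C] [Algebra A C] : Prop := ∀ i, ∀ x ∈ X i, (1 : C) ⊗ₜ[A] x = 0

/-- `K` is the least good ideal near `p`. -/
def MinAt (p : Ideal A) (K : Ideal A) : Prop :=
  ∀ K' : Ideal A, Good X K' → ∀ k ∈ K, ∃ s ∉ p, s * k ∈ K'

/-- Multiplication `K ⊗ N → N`. -/
noncomputable def mulK (K : Ideal A) (M : Type u) [AddCommGroup M] [Module A M] : K ⊗[A] M →ₗ[A] M :=
  TensorProduct.lift ((LinearMap.lsmul A M).comp K.subtype)

theorem mulK_tmul (K : Ideal A) (M : Type u) [AddCommGroup M] [Module A M] (k : K) (m : M) :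
    mulK K M (k ⊗ₜ m) = (k : A) • m := rfl

theorem range_mulK (K : Ideal A) (M : Type u) [AddCommGroup M] [Module A M] :
    LinearMap.range (mulK K M) = K • (⊤ : Submodule A M) := by
  refine le_antisymm ?_ (Submodule.smul_le.2 fun k hk m _ => ⟨(⟨k, hk⟩ : K) ⊗ₜ m, rfl⟩)
  rintro _ ⟨t, rfl⟩
  induction t using TensorProduct.induction_on with
  | zero => simp
  | tmul k m => rw [mulK_tmul]; exact Submodule.smul_mem_smul k.2 Submodule.mem_top
  | add a b ha hb => rw [map_add]; exact add_mem ha hb

theorem mulK_injective (K : Ideal A) (M : Type u) [AddCommGroup M] [Module A M] [Module.Flat A M] :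
    Function.Injective (mulK K M) := by
  have : mulK K M = (TensorProduct.lid A M).toLinearMap.comp (K.subtype.rTensor M) :=
    TensorProduct.ext' fun k m => by simp [mulK_tmul]
  rw [this]
  exact (TensorProduct.lid A M).injective.comp
    (Module.Flat.rTensor_preserves_injective_linearMap K.subtype K.subtype_injective)

variable [∀ i, Module.Flat A (N i)]

theorem vanish_iff (C : Type u) [CommRing C] [Algebra A C] :
    Vanish A X C ↔ Good X (RingHom.ker (algebraMap A C)) := by
  refine forall_congr' fun i => forall₂_congr fun x _ => ?_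
  let K := RingHom.ker (algebraMap A C)
  let j : (A ⧸ K) →ₗ[A] C := (K : Submodule A A).liftQ (Algebra.linearMap A C) (fun a ha => ha)
  have hj : Function.Injective j := by
    rw [← LinearMap.ker_eq_bot, Submodule.ker_liftQ, Submodule.eq_bot_iff]
    rintro _ ⟨a, ha, rfl⟩
    exact (Submodule.Quotient.mk_eq_zero _).2 ha
  have e : (j.rTensor (N i)) ((1 : A ⧸ K) ⊗ₜ x) = (1 : C) ⊗ₜ x := by
    rw [LinearMap.rTensor_tmul]
    congr 1
    exact map_one (algebraMap A C)
  rw [← e, map_eq_zero_iff _ (Module.Flat.rTensor_preserves_injective_linearMap j hj),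
    ← (TensorProduct.quotTensorEquivQuotSMul (N i) K).map_eq_zero_iff]
  rw [show (1 : A ⧸ K) = Ideal.Quotient.mk K 1 from rfl, TensorProduct.quotTensorEquivQuotSMul_mk_tmul,
    one_smul, Submodule.Quotient.mk_eq_zero]

theorem good_inf {K L : Ideal A} (hK : Good X K) (hL : Good X L) : Good X (K ⊓ L) := by
  have hker : RingHom.ker (algebraMap A ((A ⧸ K) × (A ⧸ L))) = K ⊓ L := by
    ext a
    simp [RingHom.mem_ker, Prod.ext_iff, Ideal.Quotient.eq_zero_iff_mem]
  rw [← hker, ← vanish_iff]
  intro i x hx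
  have hK' := ((vanish_iff X (A ⧸ K)).2 (by rwa [Ideal.Quotient.algebraMap_eq, Ideal.mk_ker])) i x hx
  have hL' := ((vanish_iff X (A ⧸ L)).2 (by rwa [Ideal.Quotient.algebraMap_eq, Ideal.mk_ker])) i x hx
  refine (TensorProduct.prodLeft A A (A ⧸ K) (A ⧸ L) (N i)).injective ?_
  rw [map_zero, show (1 : (A ⧸ K) × (A ⧸ L)) = ((1 : A ⧸ K), (1 : A ⧸ L)) from rfl,
    TensorProduct.prodLeft_tmul, hK', hL']
  rfl

omit [∀ i, Module.Flat A (N i)] in
theorem good_top : Good X (⊤ : Ideal A) := fun i x _ => by simp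

theorem good_finset_inf {κ : Type u} (s : Finset κ) (f : κ → Ideal A) (h : ∀ k ∈ s, Good X (f k)) :
    Good X (s.inf f) := by
  classical
  induction s using Finset.induction_on with
  | empty => simpa using good_top X
  | insert k s _ ih =>
    rw [Finset.inf_insert]
    exact good_inf X (h k (Finset.mem_insert_self _ _)) (ih fun l hl => h l (Finset.mem_insert_of_mem hl))

omit [∀ i, Module.Flat A (N i)] in
theorem MinAt.mono {p K K₀ : Ideal A} (h : MinAt X p K₀) (hle : K ≤ K₀) : MinAt X p K :=
  fun K' hK' k hk => h K' hK' k (hle hk)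

/-- No nonzero form on `K` with values in the residue field at `p` kills the elements. -/
def Detect (p : Ideal A) [p.IsPrime] (K : Ideal A) : Prop :=
  ∀ lam : K →ₗ[A] p.ResidueField,
    (∀ i, ∀ t : K ⊗[A] N i, mulK K (N i) t ∈ X i → lam.rTensor (N i) t = 0) → lam = 0

theorem minAt_of_detect [IsNoetherianRing A] {p : Ideal A} [p.IsPrime] {K : Ideal A} (hK : Good X K)
    (hd : Detect X p K) : MinAt X p K := by
  intro K' hK' k hk
  by_contra hcon
  push Not at hcon
  let K'' := K ⊓ K'
  let W : Submodule A K := Submodule.comap K.subtype K''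
  let z : K ⧸ W := W.mkQ ⟨k, hk⟩
  have hsupp : (⟨p, inferInstance⟩ : PrimeSpectrum A) ∈ Module.support A (K ⧸ W) := by
    rw [Module.mem_support_iff_of_finite]
    intro a ha
    by_contra hap
    have h0 : a • z = 0 := Module.mem_annihilator.1 ha z
    rw [← map_smul, Submodule.mkQ_apply, Submodule.Quotient.mk_eq_zero] at h0
    exact hcon a hap h0.2
  rw [Module.mem_support_iff_nontrivial_residueField_tensorProduct] at hsupp
  obtain ⟨v, hv⟩ := exists_ne (0 : p.ResidueField ⊗[A] (K ⧸ W))
  obtain ⟨φ, hφ⟩ := Module.Projective.exists_dual_ne_zero p.ResidueField hv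
  let μ : (K ⧸ W) →ₗ[A] p.ResidueField :=
    (φ.restrictScalars A).comp (TensorProduct.mk A p.ResidueField (K ⧸ W) 1)
  have hμ : μ.comp W.mkQ = 0 := by
    refine hd _ fun i t ht => ?_
    have hx : mulK K (N i) t ∈ K'' • (⊤ : Submodule A (N i)) := good_inf X hK hK' i _ ht
    rw [← range_mulK] at hx
    obtain ⟨t', ht'⟩ := hx
    let j : K'' →ₗ[A] K := Submodule.inclusion inf_le_left
    have hjW : ∀ y, W.mkQ (j y) = 0 := fun y => (Submodule.Quotient.mk_eq_zero _).2 (show (j y : A) ∈ K'' from y.2)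
    have htt : t = j.rTensor (N i) t' := by
      refine mulK_injective K (N i) (ht'.symm.trans ?_)
      refine LinearMap.congr_fun (f := mulK K'' (N i)) (g := (mulK K (N i)).comp (j.rTensor (N i))) ?_ t'
      exact TensorProduct.ext' fun a b => rfl
    rw [htt, ← LinearMap.rTensor_comp_apply, show (μ.comp W.mkQ).comp j = 0 from
      LinearMap.ext fun y => by simp [hjW y], LinearMap.rTensor_zero, LinearMap.zero_apply]
  refine hφ ?_
  have hμ' : μ = 0 := LinearMap.ext fun y => by
    obtain ⟨y, rfl⟩ := W.mkQ_surjective y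
    exact LinearMap.congr_fun hμ y
  clear hφ hv
  induction v using TensorProduct.induction_on with
  | zero => exact map_zero φ
  | tmul c m =>
    rw [show c ⊗ₜ[A] m = c • ((1 : p.ResidueField) ⊗ₜ m) by rw [TensorProduct.smul_tmul', smul_eq_mul, mul_one],
      map_smul, show φ (1 ⊗ₜ m) = μ m from rfl, hμ', LinearMap.zero_apply, smul_zero]
  | add y z hy hz => rw [map_add, hy, hz, add_zero]

theorem detect_of_minAt {p : Ideal A} [p.IsPrime] {K : Ideal A} (hK : Good X K) (hm : MinAt X p K) :
    Detect X p K := by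
  intro lam hlam
  let W : Submodule A K := LinearMap.ker lam
  let K'' : Ideal A := Submodule.map K.subtype W
  have hgood : Good X K'' := by
    intro i x hx
    obtain ⟨t, ht⟩ : x ∈ LinearMap.range (mulK K (N i)) := by rw [range_mulK]; exact hK i x hx
    have h0 : lam.rTensor (N i) t = 0 := hlam i t (by rw [ht]; exact hx)
    let j : (K ⧸ W) →ₗ[A] p.ResidueField := W.liftQ lam le_rfl
    have hj : Function.Injective j := by
      rw [← LinearMap.ker_eq_bot]; exact Submodule.ker_liftQ_eq_bot' _ _ rfl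
    have h1 : W.mkQ.rTensor (N i) t = 0 := by
      refine (map_eq_zero_iff _ (Module.Flat.rTensor_preserves_injective_linearMap j hj)).1 ?_
      rw [← LinearMap.rTensor_comp_apply, Submodule.liftQ_mkQ, h0]
    obtain ⟨w, hw⟩ := ((rTensor_exact (N i) (LinearMap.exact_subtype_mkQ W) W.mkQ_surjective) t).1 h1
    rw [← ht, ← hw]
    clear hw h1 h0 ht
    induction w using TensorProduct.induction_on with
    | zero => simp
    | tmul a b =>
      rw [LinearMap.rTensor_tmul, mulK_tmul]
      exact Submodule.smul_mem_smul ⟨a.1, a.2, rfl⟩ Submodule.mem_top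
    | add y z hy hz => rw [map_add, map_add]; exact add_mem hy hz
  refine LinearMap.ext fun k => ?_
  obtain ⟨s, hs, ⟨w, hw, hwk⟩⟩ := hm K'' hgood k.1 k.2
  have : s • k = w := Subtype.ext (by rw [Submodule.coe_smul, smul_eq_mul]; exact hwk.symm)
  have h2 : s • lam k = 0 := by rw [← map_smul, this]; exact hw
  rw [LinearMap.zero_apply]
  rw [Algebra.smul_def] at h2
  refine (mul_eq_zero.1 h2).resolve_left fun h => hs ?_
  exact Ideal.algebraMap_residueField_eq_zero.1 h

theorem exists_forall_minAt [IsNoetherianRing A]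
    (hloc : ∀ (p : Ideal A) [p.IsPrime], ∃ K, Good X K ∧ MinAt X p K)
    (hspread : ∀ (q : Ideal A) [q.IsPrime] (K : Ideal A), Good X K → MinAt X q K →
      ∃ f ∉ q, ∀ (p : Ideal A) [p.IsPrime], q ≤ p → f ∉ p → MinAt X p K) :
    ∃ J : Ideal A, Good X J ∧ ∀ K, Good X K → J ≤ K := by
  classical
  have key : ∀ q : Ideal A, q.IsPrime → ∃ K, Good X K ∧ ∀ (p : Ideal A) [p.IsPrime], q ≤ p → MinAt X p K := by
    intro q
    induction q using WellFoundedGT.induction with
    | _ q ih =>
      intro hq
      obtain ⟨K₀, hK₀, hm₀⟩ := hloc q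
      obtain ⟨f, hf, hsp⟩ := hspread q K₀ hK₀ hm₀
      let I := q ⊔ Ideal.span {f}
      have hfin := Ideal.finite_minimalPrimes_of_isNoetherianRing A I
      have hlt : ∀ r ∈ I.minimalPrimes, q < r := fun r hr => lt_of_le_of_ne (le_sup_left.trans hr.le) fun h =>
        hf (h ▸ hr.le (Ideal.mem_sup_right (Ideal.mem_span_singleton_self f)))
      choose! Kr hKr hKr' using fun r (hr : r ∈ I.minimalPrimes) => ih r (hlt r hr) hr.isPrime
      refine ⟨K₀ ⊓ hfin.toFinset.inf Kr, good_inf X hK₀ (good_finset_inf X _ _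
        fun r hr => hKr r (hfin.mem_toFinset.1 hr)), fun p hp hqp => ?_⟩
      by_cases hfp : f ∈ p
      · obtain ⟨r, hr, hrp⟩ := Ideal.exists_minimalPrimes_le
          (show I ≤ p from sup_le hqp ((Ideal.span_singleton_le_iff_mem _).2 hfp))
        exact MinAt.mono X (hKr' r hr p hrp) (inf_le_right.trans (Finset.inf_le (hfin.mem_toFinset.2 hr)))
      · exact MinAt.mono X (hsp p hqp hfp) inf_le_left
  have hfin := minimalPrimes.finite_of_isNoetherianRing A
  choose! Kr hKr hKr' using fun r (hr : r ∈ minimalPrimes A) => key r hr.isPrime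
  refine ⟨hfin.toFinset.inf Kr, good_finset_inf X _ _ fun r hr => hKr r (hfin.mem_toFinset.1 hr),
    fun K hK k hk => ?_⟩
  let c : Ideal A := (K : Submodule A A).colon ((Ideal.span {k} : Ideal A) : Set A)
  have hc : ∀ s, s * k ∈ K → s ∈ c := fun s hs => Submodule.mem_colon.2 fun y hy => by
    obtain ⟨a, rfl⟩ := Ideal.mem_span_singleton'.1 hy
    rw [smul_eq_mul, show s * (a * k) = a * (s * k) by ring]
    exact K.mul_mem_left a hs
  by_contra hkK
  have hne : c ≠ ⊤ := fun h => hkK (by
    have := Submodule.mem_colon.1 (show (1 : A) ∈ c from h ▸ trivial) k (Ideal.mem_span_singleton_self k)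
    rwa [one_smul] at this)
  obtain ⟨p, hp, hcp⟩ := Ideal.exists_le_maximal c hne
  obtain ⟨r, hr, hrp⟩ := Ideal.exists_minimalPrimes_le (show (⊥ : Ideal A) ≤ p from bot_le)
  obtain ⟨s, hs, hsk⟩ := hKr' r hr p hrp K hK k (Finset.inf_le (f := Kr) (hfin.mem_toFinset.2 hr) hk)
  exact hs (hcp (hc s hsk))

end Groth.Agent.VanLoc
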