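import Groth.Agent.VanLoc.Spread
import Groth.Agent.LunaFT.Complete
import Groth.Agent.ArtFunLib.Hull.Ring
import Groth.Agent.LC.CanonComplete

/-!
# The least good ideal at a prime, from the completion
-/

set_option autoImplicit false
universe u

open TensorProduct IsLocalRing

namespace Groth.Agent.VanLoc

variable {A : Type u} [CommRing A] [IsNoetherianRing A] {ι : Type u} {N : ι → Type u}
  [∀ i, AddCommGroup (N i)] [∀ i, Module A (N i)] (X : ∀ i, Set (N i)) [∀ i, Module.Flat A (N i)]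

variable (A) in
/-- Vanishing to all orders at the closed point implies vanishing. -/
def Formal : Prop :=
  ∀ (C : Type u) [CommRing C] [Algebra A C] [IsLocalRing C] [IsNoetherianRing C],
    (∀ (n : ℕ) (i : ι), ∀ x ∈ X i, (1 : C) ⊗ₜ[A] x ∈ (maximalIdeal C ^ n • ⊤ : Submodule C (C ⊗[A] N i))) →
      Vanish A X C

theorem exists_minAt (hF : Formal A X) (p : Ideal A) [p.IsPrime] : ∃ K, Good X K ∧ MinAt X p K := by
  classical
  let R := Localization.AtPrime p
  let Rh := AdicCompletion (maximalIdeal R) R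
  haveI : IsNoetherianRing Rh := LC.Canon.isNoetherianRing_completion
  haveI : Module.FaithfullyFlat R Rh := LC.Canon.faithfullyFlat_completion
  let m := maximalIdeal Rh
  -- least images modulo powers of the maximal ideal
  let ext : Ideal A → Ideal Rh := fun K => (K.map (algebraMap A R)).map (algebraMap R Rh)
  have ext_mono : ∀ {K L : Ideal A}, K ≤ L → ext K ≤ ext L := fun h => Ideal.map_mono (Ideal.map_mono h)
  have hleast : ∀ n : ℕ, ∃ K, Good X K ∧ ∀ K', Good X K' → ext K ≤ ext K' ⊔ m ^ n := by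
    intro n
    haveI : IsArtinianRing (Rh ⧸ m ^ n) := ArtFunLib.Hull.isArtinianRing_quotient_pow m n
    obtain ⟨_, ⟨K, hK, rfl⟩, hmin⟩ := (wellFounded_lt (α := Ideal (Rh ⧸ m ^ n))).has_min
      ((fun K => (ext K).map (Ideal.Quotient.mk (m ^ n))) '' {K | Good X K}) ⟨_, ⊤, good_top X, rfl⟩
    refine ⟨K, hK, fun K' hK' => ?_⟩
    have hle : (ext (K ⊓ K')).map (Ideal.Quotient.mk (m ^ n)) ≤ (ext K).map (Ideal.Quotient.mk (m ^ n)) :=
      Ideal.map_mono (ext_mono inf_le_left)
    have heq : (ext (K ⊓ K')).map (Ideal.Quotient.mk (m ^ n)) = (ext K).map (Ideal.Quotient.mk (m ^ n)) :=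
      hle.eq_or_lt.resolve_right (hmin _ ⟨_, good_inf X hK hK', rfl⟩)
    have h2 : (ext K).map (Ideal.Quotient.mk (m ^ n)) ≤ (ext K').map (Ideal.Quotient.mk (m ^ n)) :=
      heq.ge.trans (Ideal.map_mono (ext_mono inf_le_right))
    have h3 := (Ideal.map_le_iff_le_comap).1 h2
    rwa [Ideal.comap_map_of_surjective _ Ideal.Quotient.mk_surjective, ← RingHom.ker_eq_comap_bot,
      Ideal.mk_ker] at h3
  choose K hK hKmin using hleast
  let L : ℕ → Ideal A := fun n => (Finset.range (n + 1)).inf K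
  have hL : ∀ n, Good X (L n) := fun n => by
    induction n with
    | zero => simpa [L] using hK 0
    | succ n ih =>
      have : L (n + 1) = L n ⊓ K (n + 1) := by
        simp only [L, Finset.range_add_one (n := n + 1), Finset.inf_insert, inf_comm]
      rw [this]; exact good_inf X ih (hK _)
  have hLanti : Antitone L := fun a b h => Finset.inf_mono (Finset.range_mono (by omega))
  let Jh : Ideal Rh := ⨅ n, ext (L n)
  have hJ : ∀ K', Good X K' → Jh ≤ ext K' := by
    intro K' hK' x hx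
    refine LunaFT.mem_of_forall_mem_sup (R := Rh) (ext K') fun n => ?_
    rw [Ideal.smul_eq_mul, Ideal.mul_top]
    exact hKmin n K' hK' (ext_mono (Finset.inf_le (Finset.self_mem_range_succ n)) ((Submodule.mem_iInf _).1 hx n))
  -- Chevalley
  let C := Rh ⧸ Jh
  have hJne : Jh ≠ ⊤ ∨ Jh = ⊤ := (ne_or_eq Jh ⊤)
  rcases hJne with hne | htop
  swap
  · -- nothing vanishes near `p`
    refine ⟨⊤, good_top X, fun K' hK' k _ => ?_⟩
    have h1 : ext K' = ⊤ := top_le_iff.1 (htop ▸ hJ K' hK')
    have h2 := congrArg (Ideal.comap (algebraMap R Rh)) h1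
    rw [Ideal.comap_map_eq_self_of_faithfullyFlat, Ideal.comap_top] at h2
    obtain ⟨⟨⟨a, ha⟩, s⟩, has⟩ := (IsLocalization.mem_map_algebraMap_iff p.primeCompl R).1 (h2 ▸ Submodule.mem_top (x := (1 : R)))
    rw [one_mul] at has
    obtain ⟨c, hc⟩ := (IsLocalization.eq_iff_exists p.primeCompl R).1 has
    refine ⟨c * s, fun h => (‹p.IsPrime›.mem_or_mem h).elim c.2 s.2, ?_⟩
    rw [hc]
    exact K'.mul_mem_right _ (K'.mul_mem_left _ ha)
  haveI : Nontrivial C := Ideal.Quotient.nontrivial_iff.2 hne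
  haveI : IsLocalRing C := IsLocalRing.of_surjective' (Ideal.Quotient.mk Jh) Ideal.Quotient.mk_surjective
  have hC : ∀ n, ∃ q, (ext (L q)).map (Ideal.Quotient.mk Jh) ≤ maximalIdeal C ^ n := by
    intro n
    obtain ⟨q, hq⟩ := LunaFT.chevalley (R := Rh) (M := C)
      (fun q => Submodule.map (Submodule.mkQ Jh) (ext (L q)))
      (fun a b h => Submodule.map_mono (ext_mono (hLanti h))) (fun x hx => by
      obtain ⟨y, rfl⟩ := Submodule.mkQ_surjective Jh x
      refine (Submodule.Quotient.mk_eq_zero _).2 ((Submodule.mem_iInf _).2 fun q => ?_)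
      obtain ⟨z, hz, hzy⟩ := hx q
      have h1 : z - y ∈ Jh := (Submodule.Quotient.eq _).1 hzy
      simpa using sub_mem hz ((Submodule.mem_iInf _).1 h1 q)) n
    refine ⟨q, fun x hx => ?_⟩
    obtain ⟨y, hy, rfl⟩ := (Ideal.mem_map_iff_of_surjective _ Ideal.Quotient.mk_surjective).1 hx
    have h1 : Submodule.mkQ Jh y ∈ (maximalIdeal Rh ^ n • ⊤ : Submodule Rh C) := hq ⟨y, hy, rfl⟩
    rw [Ideal.smul_top_eq_map, Submodule.restrictScalars_mem, Ideal.Quotient.algebraMap_eq, Ideal.map_pow] at h1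
    have hmax : (maximalIdeal Rh).map (Ideal.Quotient.mk Jh) = maximalIdeal C :=
      IsLocalRing.map_maximalIdeal_of_surjective _ Ideal.Quotient.mk_surjective
    rw [← hmax]
    exact h1
  obtain ⟨C', _, _, _, π, hπs, hπk, hπm⟩ : ∃ (C' : Type u) (_ : CommRing C') (_ : IsLocalRing C')
      (_ : IsNoetherianRing C') (π : Rh →+* C'), Function.Surjective π ∧ RingHom.ker π = Jh ∧
      ∀ n, ∃ q, (ext (L q)).map π ≤ maximalIdeal C' ^ n :=
    ⟨C, inferInstance, inferInstance, inferInstance, Ideal.Quotient.mk Jh, Ideal.Quotient.mk_surjective,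
      Ideal.mk_ker, hC⟩
  let lC : A →+* C' := π.comp ((algebraMap R Rh).comp (algebraMap A R))
  letI : Algebra A C' := lC.toAlgebra
  have hvan : Vanish A X C' := by
    refine hF C' fun n i x hx => ?_
    obtain ⟨q, hq⟩ := hπm n
    have h1 : x ∈ L q • (⊤ : Submodule A (N i)) := hL q i x hx
    clear hx
    induction h1 using Submodule.smul_induction_on' with
    | smul a ha y _ =>
      rw [TensorProduct.tmul_smul, ← algebraMap_smul C' a]
      exact Submodule.smul_mem_smul (hq (Ideal.mem_map_of_mem _ (Ideal.mem_map_of_mem _ (Ideal.mem_map_of_mem _ ha))))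
        Submodule.mem_top
    | add a _ b _ ha hb => rw [TensorProduct.tmul_add]; exact add_mem ha hb
  refine ⟨RingHom.ker lC, (vanish_iff X C').1 hvan, fun K' hK' k hk => ?_⟩
  have h1 : algebraMap R Rh (algebraMap A R k) ∈ ext K' := hJ K' hK' (hπk ▸ hk)
  rw [← Ideal.mem_comap, Ideal.comap_map_eq_self_of_faithfullyFlat] at h1
  obtain ⟨⟨⟨a, ha⟩, s⟩, has⟩ := (IsLocalization.mem_map_algebraMap_iff p.primeCompl R).1 h1
  rw [← map_mul] at has
  obtain ⟨c, hc⟩ := (IsLocalization.eq_iff_exists p.primeCompl R).1 has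
  refine ⟨c * s, fun h => (‹p.IsPrime›.mem_or_mem h).elim c.2 s.2, ?_⟩
  rw [show (c : A) * s * k = c * (k * s) by ring, hc]
  exact K'.mul_mem_left _ ha

variable [Finite ι] (B : ι → Type u) [∀ i, CommRing (B i)] [∀ i, Algebra A (B i)] [∀ i, Algebra.FiniteType A (B i)]
  [∀ i, Module (B i) (N i)] [∀ i, IsScalarTower A (B i) (N i)] [∀ i, Module.Finite (B i) (N i)]

include B in
/-- The least ideal modulo which the elements vanish. -/
theorem exists_least (hF : Formal A X) : ∃ J : Ideal A, Good X J ∧ ∀ K, Good X K → J ≤ K :=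
  exists_forall_minAt X (fun p _ => exists_minAt X hF p) fun q _ K hK hm => exists_spread X B q K hK hm

end Groth.Agent.VanLoc
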