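import Groth.Agent.QCoh.FlatBC
import Groth.Agent.FlatPt5.Stage

/-!
# Vanishing of the inverse image of a morphism of modules
-/

set_option autoImplicit false
universe u

open CategoryTheory CategoryTheory.Limits AlgebraicGeometry TopologicalSpace Opposite TensorProduct

namespace Groth.Agent.VanLoc

variable {Y : Scheme.{u}} {G F : Y.Modules} (σ : G ⟶ F)

/-- The inverse image of `σ` along `φ` vanishes. -/
def Van {Y' : Scheme.{u}} (φ : Y' ⟶ Y) : Prop := (Scheme.Modules.pullback φ).map σ = 0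

theorem map_eq_zero_of_iso {C D : Type*} [Category C] [Category D] [HasZeroMorphisms D] {P Q : C ⥤ D}
    (e : P ≅ Q) {a b : C} (f : a ⟶ b) (h : P.map f = 0) : Q.map f = 0 := by
  have : Q.map f = e.inv.app a ≫ P.map f ≫ e.hom.app b := by
    rw [e.hom.naturality f, Iso.inv_hom_id_app_assoc]
  rw [this, h, zero_comp, comp_zero]

theorem Van.comp {Y' Y'' : Scheme.{u}} {φ : Y' ⟶ Y} (h : Van σ φ) (ψ : Y'' ⟶ Y') : Van σ (ψ ≫ φ) := by
  refine map_eq_zero_of_iso (Scheme.Modules.pullbackComp ψ φ) σ ?_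
  show (Scheme.Modules.pullback ψ).map ((Scheme.Modules.pullback φ).map σ) = 0
  rw [show (Scheme.Modules.pullback φ).map σ = 0 from h]
  exact (Scheme.Modules.pullback ψ).map_zero _ _

theorem van_comp_iff {Y' Y'' : Scheme.{u}} (φ : Y' ⟶ Y) (ψ : Y'' ⟶ Y') :
    Van σ (ψ ≫ φ) ↔ Van ((Scheme.Modules.pullback φ).map σ) ψ :=
  ⟨fun h => map_eq_zero_of_iso (Scheme.Modules.pullbackComp ψ φ).symm σ h,
    fun h => map_eq_zero_of_iso (Scheme.Modules.pullbackComp ψ φ) σ h⟩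

theorem app_map {Y' : Scheme.{u}} {M N : Y'.Modules} (τ : M ⟶ N) {W W' : Y'.Opens} (e : W' ⟶ W) (y : Γ(M, W)) :
    τ.app W' (M.presheaf.map e.op y) = N.presheaf.map e.op (τ.app W y) :=
  QCoh.map_app_comm τ e y

theorem hom_eq_zero_of_forall {Y' : Scheme.{u}} {M N : Y'.Modules} (τ : M ⟶ N)
    (h : ∀ w : Y', ∃ W₀ : Y'.Opens, w ∈ W₀ ∧ ∀ W ≤ W₀, ∀ y : Γ(M, W), τ.app W y = 0) : τ = 0 := by
  choose W₀ hw h₀ using h
  ext W y
  refine TopCat.Sheaf.eq_of_locally_eq' ⟨N.presheaf, Scheme.Modules.isSheaf N⟩ (fun w : W => W ⊓ W₀ w.1) W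
    (fun w => homOfLE inf_le_left) (fun w hw' => Opens.mem_iSup.2 ⟨⟨w, hw'⟩, hw', hw w⟩) _ _ fun w => ?_
  show N.presheaf.map (homOfLE inf_le_left).op (τ.app W y) = N.presheaf.map (homOfLE inf_le_left).op 0
  rw [← app_map, map_zero]
  exact h₀ w.1 _ inf_le_right _

theorem pullSec_res {Y' : Scheme.{u}} (φ : Y' ⟶ Y) {M : Y.Modules} {U : Y.Opens} {W W' : Y'.Opens} (hW' : W' ≤ W)
    (hle : W ≤ φ ⁻¹ᵁ U) (x : Γ(M, U)) :
    ((Scheme.Modules.pullback φ).obj M).presheaf.map (homOfLE hW').op (QCoh.pullSec φ M hle x) =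
      QCoh.pullSec φ M (hW'.trans hle) x :=
  QCoh.map_map _ _ _

theorem app_eq_zero_of_gen {Y' : Scheme.{u}} (φ : Y' ⟶ Y) (hG : Coh.IsQCoh G) {U : Y.Opens} (hU : IsAffineOpen U)
    {W : Y'.Opens} (hW : IsAffineOpen W) (hle : W ≤ φ ⁻¹ᵁ U)
    (h : ∀ x : Γ(G, U), QCoh.pullSec φ F hle (σ.app U x) = 0) (y : Γ((Scheme.Modules.pullback φ).obj G, W)) :
    ((Scheme.Modules.pullback φ).map σ).app W y = 0 := by
  letI := (φ.appLE U W hle).hom.toAlgebra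
  letI : Module Γ(Y, U) Γ((Scheme.Modules.pullback φ).obj G, W) := Module.compHom _ (φ.appLE U W hle).hom
  haveI : IsScalarTower Γ(Y, U) Γ(Y', W) Γ((Scheme.Modules.pullback φ).obj G, W) :=
    .of_algebraMap_smul fun _ _ => rfl
  let l : Γ(G, U) →ₗ[Γ(Y, U)] Γ((Scheme.Modules.pullback φ).obj G, W) :=
    { toFun := QCoh.pullSec φ G hle
      map_add' := QCoh.pullSec_add φ G hle
      map_smul' := fun r x => QCoh.pullSec_smul φ G hle r x }
  have hl : IsBaseChange Γ(Y', W) l := QCoh.isBaseChange_pullback hU φ hW hG hle (fun _ => rfl) l fun _ => rfl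
  induction y using hl.inductionOn with
  | zero => exact map_zero _
  | tmul x => exact (FlatPt5.pullSec_map φ σ hle x).trans (h x)
  | smul r y hy => rw [Scheme.Modules.Hom.app_smul, hy, smul_zero]
  | add a b ha hb => rw [map_add, ha, hb, add_zero]

theorem app_eq_zero_of_le {Y' : Scheme.{u}} (φ : Y' ⟶ Y) (hG : Coh.IsQCoh G) {U : Y.Opens} (hU : IsAffineOpen U)
    {W₀ : Y'.Opens} (hle : W₀ ≤ φ ⁻¹ᵁ U) (h : ∀ x : Γ(G, U), QCoh.pullSec φ F hle (σ.app U x) = 0)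
    {W : Y'.Opens} (hW : W ≤ W₀) (y : Γ((Scheme.Modules.pullback φ).obj G, W)) :
    ((Scheme.Modules.pullback φ).map σ).app W y = 0 := by
  let N := (Scheme.Modules.pullback φ).obj F
  refine TopCat.Sheaf.eq_of_locally_eq' ⟨N.presheaf, Scheme.Modules.isSheaf N⟩
    (fun V : {V : Y'.affineOpens // V.1 ≤ W} => V.1.1) W (fun V => homOfLE V.2) ?_ _ _ fun V => ?_
  · intro w hw
    obtain ⟨V, hV, hwV, hVW⟩ := exists_isAffineOpen_mem_and_subset (X := Y') (x := w) hw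
    exact Opens.mem_iSup.2 ⟨⟨⟨V, hV⟩, hVW⟩, hwV⟩
  · show N.presheaf.map (homOfLE V.2).op _ = N.presheaf.map (homOfLE V.2).op 0
    rw [← app_map, map_zero]
    refine app_eq_zero_of_gen σ φ hG hU V.1.2 ((V.2.trans hW).trans hle) (fun x => ?_) _
    rw [← pullSec_res φ (V.2.trans hW) hle, h x]
    exact map_zero _

theorem van_of_local {Y' : Scheme.{u}} (φ : Y' ⟶ Y) (hG : Coh.IsQCoh G)
    (h : ∀ w : Y', ∃ (W : Y'.Opens) (U : Y.Opens) (hle : W ≤ φ ⁻¹ᵁ U), w ∈ W ∧ IsAffineOpen U ∧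
      ∀ x : Γ(G, U), QCoh.pullSec φ F hle (σ.app U x) = 0) : Van σ φ := by
  refine hom_eq_zero_of_forall _ fun w => ?_
  obtain ⟨W, U, hle, hw, hU, hx⟩ := h w
  exact ⟨W, hw, fun W' hW' y => app_eq_zero_of_le σ φ hG hU hle hx hW' y⟩

theorem Van.pullSec_eq_zero {Y' : Scheme.{u}} {φ : Y' ⟶ Y} (h : Van σ φ) {U : Y.Opens} {W : Y'.Opens}
    (hle : W ≤ φ ⁻¹ᵁ U) (x : Γ(G, U)) : QCoh.pullSec φ F hle (σ.app U x) = 0 := by
  rw [← FlatPt5.pullSec_map φ σ hle x, show (Scheme.Modules.pullback φ).map σ = 0 from h]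
  rfl

theorem van_of_openCover {Y' : Scheme.{u}} (φ : Y' ⟶ Y) (𝒰 : Y'.OpenCover) (h : ∀ i, Van σ (𝒰.f i ≫ φ)) :
    Van σ φ := by
  refine hom_eq_zero_of_forall _ fun w => ?_
  obtain ⟨i, v, rfl⟩ := 𝒰.exists_eq w
  refine ⟨(𝒰.f i).opensRange, ⟨v, rfl⟩, fun W hW y => ?_⟩
  let τ := (Scheme.Modules.pullback φ).map σ
  have hτ : (Scheme.Modules.restrictFunctor (𝒰.f i)).map τ = 0 :=
    map_eq_zero_of_iso (Scheme.Modules.restrictFunctorIsoPullback (𝒰.f i)).symm τ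
      ((van_comp_iff σ φ (𝒰.f i)).1 (h i))
  have key : ∀ (O : (𝒰.X i).Opens) (z : Γ((Scheme.Modules.pullback φ).obj G, 𝒰.f i ''ᵁ O)),
      τ.app (𝒰.f i ''ᵁ O) z = 0 := fun O z => by
    show ((Scheme.Modules.restrictFunctor (𝒰.f i)).map τ).app O z = 0
    rw [hτ]; rfl
  have he : W = 𝒰.f i ''ᵁ (𝒰.f i ⁻¹ᵁ W) := by
    rw [Scheme.Hom.image_preimage_eq_opensRange_inf, inf_eq_right.2 hW]
  revert y
  rw [he]
  exact key _

variable {A C : Type u} [CommRing A] [CommRing C] [Algebra A C] {Y' : Scheme.{u}} {φ : Y' ⟶ Y}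
  {pA : Y ⟶ Spec (CommRingCat.of A)} {pC : Y' ⟶ Spec (CommRingCat.of C)}

theorem pullSec_eq_zero_iff (h : IsPullback φ pC pA (Spec.map (CommRingCat.ofHom (algebraMap A C))))
    (hF : Coh.IsQCoh F) {U : Y.Opens} (hU : IsAffineOpen U) (x : Γ(F, U)) :
    letI := QCoh.secModule (Coh.toGlobal pA) F U
    QCoh.pullSec φ F (le_rfl : φ ⁻¹ᵁ U ≤ φ ⁻¹ᵁ U) x = 0 ↔ (1 : C) ⊗ₜ[A] x = 0 := by
  let M' := (Scheme.Modules.pullback φ).obj F
  letI := QCoh.secModule (Coh.toGlobal pA) F U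
  letI := QCoh.secModule (Coh.toGlobal pC) M' (φ ⁻¹ᵁ U)
  letI := QCoh.secModule ((Coh.toGlobal pC).comp (algebraMap A C)) M' (φ ⁻¹ᵁ U)
  haveI : IsScalarTower A C Γ(M', φ ⁻¹ᵁ U) := .of_algebraMap_smul fun _ _ => rfl
  let η : F ⟶ (Scheme.Modules.pushforward φ).obj M' :=
    (Scheme.Modules.pullbackPushforwardAdjunction φ).unit.app F
  have hb : IsBaseChange C (QCoh.secLin (Coh.toGlobal pA) (Coh.toGlobal pC) φ η
      (QCoh.toGlobal_comm pA pC φ h.w) U (φ ⁻¹ᵁ U) le_rfl) := QCoh.isAffineBC_of_isPullback h hF U hU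
  rw [← map_eq_zero_iff _ hb.equiv.injective, IsBaseChange.equiv_tmul, one_smul]
  exact Iff.rfl

theorem pullSec_mem_smul (h : IsPullback φ pC pA (Spec.map (CommRingCat.ofHom (algebraMap A C))))
    (hF : Coh.IsQCoh F) {U : Y.Opens} (hU : IsAffineOpen U) (x : Γ(F, U)) (J : Ideal C)
    (hx : letI := QCoh.secModule (Coh.toGlobal pA) F U
      (1 : C) ⊗ₜ[A] x ∈ (J • ⊤ : Submodule C (C ⊗[A] Γ(F, U)))) :
    QCoh.pullSec φ F (le_rfl : φ ⁻¹ᵁ U ≤ φ ⁻¹ᵁ U) x ∈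
      (J.map ((Y'.presheaf.map (homOfLE (le_top : φ ⁻¹ᵁ U ≤ ⊤)).op).hom.comp (Coh.toGlobal pC)) • ⊤ :
        Submodule Γ(Y', φ ⁻¹ᵁ U) Γ((Scheme.Modules.pullback φ).obj F, φ ⁻¹ᵁ U)) := by
  let M' := (Scheme.Modules.pullback φ).obj F
  letI := QCoh.secModule (Coh.toGlobal pA) F U
  letI := QCoh.secModule (Coh.toGlobal pC) M' (φ ⁻¹ᵁ U)
  letI := QCoh.secModule ((Coh.toGlobal pC).comp (algebraMap A C)) M' (φ ⁻¹ᵁ U)
  haveI : IsScalarTower A C Γ(M', φ ⁻¹ᵁ U) := .of_algebraMap_smul fun _ _ => rfl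
  let η : F ⟶ (Scheme.Modules.pushforward φ).obj M' :=
    (Scheme.Modules.pullbackPushforwardAdjunction φ).unit.app F
  have hb : IsBaseChange C (QCoh.secLin (Coh.toGlobal pA) (Coh.toGlobal pC) φ η
      (QCoh.toGlobal_comm pA pC φ h.w) U (φ ⁻¹ᵁ U) le_rfl) := QCoh.isAffineBC_of_isPullback h hF U hU
  have key : ∀ z ∈ (J • ⊤ : Submodule C (C ⊗[A] Γ(F, U))), hb.equiv z ∈
      (J.map ((Y'.presheaf.map (homOfLE (le_top : φ ⁻¹ᵁ U ≤ ⊤)).op).hom.comp (Coh.toGlobal pC)) • ⊤ :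
        Submodule Γ(Y', φ ⁻¹ᵁ U) Γ(M', φ ⁻¹ᵁ U)) := by
    intro z hz
    induction hz using Submodule.smul_induction_on' with
    | smul c hc z _ =>
      rw [map_smul]
      exact Submodule.smul_mem_smul (Ideal.mem_map_of_mem _ hc) (Submodule.mem_top (x := hb.equiv z))
    | add a _ b _ ha hb' => rw [map_add]; exact add_mem ha hb'
  have h1 := key _ hx
  rw [IsBaseChange.equiv_tmul, one_smul] at h1
  exact h1

end Groth.Agent.VanLoc
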