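import Groth.Agent.VanLoc.Local
import Groth.Agent.VanLoc.Sheaf
import Groth.Agent.QCoh.Support
import Groth.Agent.QCoh.CechTensorA
import Groth.Agent.PPSheaf.Finite

/-!
# The vanishing locus over a Noetherian affine base
-/

set_option autoImplicit false
universe u

open CategoryTheory CategoryTheory.Limits AlgebraicGeometry TopologicalSpace Opposite TensorProduct

namespace Groth.Agent.VanLoc

variable {A : Type u} [CommRing A] {Y : Scheme.{u}} (pA : Y ⟶ Spec (CommRingCat.of A)) {G F : Y.Modules} (σ : G ⟶ F)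

/-- There is a closed subscheme of the affine base representing the vanishing of `σ`. -/
def HasLocus : Prop :=
  ∃ J : Ideal A, ∀ (C : Type u) [CommRing C] [Algebra A C] (Y' : Scheme.{u}) (φ : Y' ⟶ Y)
    (pC : Y' ⟶ Spec (CommRingCat.of C)),
    IsPullback φ pC pA (Spec.map (CommRingCat.ofHom (algebraMap A C))) →
      (Van σ φ ↔ J ≤ RingHom.ker (algebraMap A C))

theorem appLE_eq_restrict_toGlobal (U : Y.Opens) (a : A) :
    Y.presheaf.map (homOfLE (le_top : U ≤ ⊤)).op (Coh.toGlobal pA a) =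
      pA.appLE ⊤ U (fun _ _ => trivial) ((Scheme.ΓSpecIso (CommRingCat.of A)).inv a) := rfl

theorem mem_basicOpen_iff {W : Y.Opens} (hW : IsAffineOpen W) {w : Y} (hw : w ∈ W) (a : Γ(Y, W)) :
    w ∈ Y.basicOpen a ↔ a ∉ (hW.primeIdealOf ⟨w, hw⟩).asIdeal := by
  conv_lhs => rw [show w = hW.fromSpec (hW.primeIdealOf ⟨w, hw⟩) from (hW.fromSpec_primeIdealOf ⟨w, hw⟩).symm]
  show hW.primeIdealOf ⟨w, hw⟩ ∈ hW.fromSpec ⁻¹ᵁ Y.basicOpen a ↔ _
  exact (SetLike.ext_iff.1 (hW.fromSpec_preimage_basicOpen a) _).trans Iff.rfl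

theorem hasLocus_of_noetherian [IsNoetherianRing A] [IsProper pA] (hG : Coh.IsQCoh G) (hF : Coh.IsCoh F)
    (hfl : FlatMod.IsFlatOver pA F) : HasLocus pA σ := by
  classical
  haveI : CompactSpace Y := QuasiCompact.compactSpace_of_compactSpace pA
  haveI : IsLocallyNoetherian Y := LocallyOfFiniteType.isLocallyNoetherian pA
  have hFq : Coh.IsQCoh F := hF.1
  obtain ⟨s, hs⟩ := isCompact_univ.elim_finite_subcover (fun U : Y.affineOpens => (U.1 : Set Y))
    (fun U => U.1.isOpen) fun y _ => by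
      obtain ⟨_, ⟨V, hV, rfl⟩, hyV, -⟩ :=
        Y.isBasis_affineOpens.exists_subset_of_mem_open (Set.mem_univ y) isOpen_univ
      exact Set.mem_iUnion.2 ⟨⟨V, hV⟩, hyV⟩
  let ι := ↥s
  let U : ι → Y.Opens := fun i => i.1.1
  have hU : ∀ i, IsAffineOpen (U i) := fun i => i.1.2
  have hcov : ∀ y : Y, ∃ i, y ∈ U i := fun y => by
    obtain ⟨V, hV, hy⟩ : ∃ V ∈ s, y ∈ V.1 := by
      simpa using hs (Set.mem_univ y)
    exact ⟨⟨V, hV⟩, hy⟩
  let ρ := Coh.toGlobal pA
  letI : ∀ i, Module A Γ(F, U i) := fun i => QCoh.secModule ρ F (U i)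
  letI : ∀ i, Algebra A Γ(Y, U i) := fun i =>
    ((Y.presheaf.map (homOfLE (le_top : U i ≤ ⊤)).op).hom.comp ρ).toAlgebra
  haveI : ∀ i, IsScalarTower A Γ(Y, U i) Γ(F, U i) := fun i => .of_algebraMap_smul fun _ _ => rfl
  haveI : ∀ i, Algebra.FiniteType A Γ(Y, U i) := fun i => by
    have h := pA.finiteType_appLE (isAffineOpen_top (Spec (CommRingCat.of A))) (hU i) (fun _ _ => trivial)
    exact h.comp (RingHom.FiniteType.of_surjective _
      (ConcreteCategory.bijective_of_isIso (Scheme.ΓSpecIso (CommRingCat.of A)).inv).2)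
  haveI : ∀ i, Module.Finite Γ(Y, U i) Γ(F, U i) := fun i => (QCoh.isCoh_iff.1 hF).2 ⟨U i, hU i⟩
  haveI : ∀ i, Module.Flat A Γ(F, U i) := fun i => by
    letI : Module Γ(Spec (CommRingCat.of A), ⊤) Γ(F, U i) :=
      Module.compHom _ (pA.appLE ⊤ (U i) (fun _ _ => trivial)).hom
    have h : Module.Flat Γ(Spec (CommRingCat.of A), ⊤) Γ(F, U i) :=
      (QCoh.flat_appLE_iff pA hFq (hU i) (isAffineOpen_top _) fun _ _ => trivial).2 fun x _ => hfl x
    letI : Algebra A Γ(Spec (CommRingCat.of A), ⊤) := (Scheme.ΓSpecIso (CommRingCat.of A)).inv.hom.toAlgebra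
    haveI : IsScalarTower A Γ(Spec (CommRingCat.of A), ⊤) Γ(F, U i) := .of_algebraMap_smul fun _ _ => rfl
    have hb : Function.Bijective (algebraMap A Γ(Spec (CommRingCat.of A), ⊤)) :=
      ConcreteCategory.bijective_of_isIso (Scheme.ΓSpecIso (CommRingCat.of A)).inv
    haveI : Module.Flat A Γ(Spec (CommRingCat.of A), ⊤) :=
      Module.Flat.of_linearEquiv (LinearEquiv.ofBijective (Algebra.linearMap A _) hb).symm
    exact Module.Flat.trans A Γ(Spec (CommRingCat.of A), ⊤) Γ(F, U i)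
  let X : ∀ i, Set Γ(F, U i) := fun i => Set.range (σ.app (U i))
  have hvan : ∀ (C : Type u) [CommRing C] [Algebra A C] (Y' : Scheme.{u}) (φ : Y' ⟶ Y)
      (pC : Y' ⟶ Spec (CommRingCat.of C)),
      IsPullback φ pC pA (Spec.map (CommRingCat.ofHom (algebraMap A C))) → (Van σ φ ↔ Vanish A X C) := by
    intro C _ _ Y' φ pC h
    constructor
    · rintro hv i _ ⟨x, rfl⟩
      exact (pullSec_eq_zero_iff h hFq (hU i) _).1 (hv.pullSec_eq_zero σ le_rfl x)
    · intro hv
      refine van_of_local σ φ hG fun w => ?_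
      obtain ⟨i, hi⟩ := hcov (φ w)
      exact ⟨φ ⁻¹ᵁ U i, U i, le_rfl, hi, hU i,
        fun x => (pullSec_eq_zero_iff h hFq (hU i) _).2 (hv i _ ⟨x, rfl⟩)⟩
  have hformal : Formal A X := by
    intro C _ _ _ _ hC
    let φ : pullback pA (Spec.map (CommRingCat.ofHom (algebraMap A C))) ⟶ Y := pullback.fst _ _
    let pC : pullback pA (Spec.map (CommRingCat.ofHom (algebraMap A C))) ⟶ Spec (CommRingCat.of C) :=
      pullback.snd _ _
    let Y' := pullback pA (Spec.map (CommRingCat.ofHom (algebraMap A C)))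
    haveI : IsProper pC := MorphismProperty.pullback_snd _ _ inferInstance
    haveI : IsLocallyNoetherian Y' := LocallyOfFiniteType.isLocallyNoetherian pC
    haveI : IsAffineHom φ := MorphismProperty.pullback_fst _ _ inferInstance
    have hpb : IsPullback φ pC pA (Spec.map (CommRingCat.ofHom (algebraMap A C))) := IsPullback.of_hasPullback _ _
    refine (hvan C Y' φ pC hpb).1 ?_
    let τ := (Scheme.Modules.pullback φ).map σ
    let Z : Set Y' := {w | ∃ W₀ : Y'.Opens, w ∈ W₀ ∧ ∀ W ≤ W₀, ∀ y, τ.app W y = 0}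
    have hZo : IsOpen Z := isOpen_iff_forall_mem_open.2 fun w ⟨W₀, hw, h₀⟩ =>
      ⟨W₀, fun w' hw' => ⟨W₀, hw', h₀⟩, W₀.isOpen, hw⟩
    have hclosed : ∀ w : Y', pC w = IsLocalRing.closedPoint C → w ∈ Z := by
      intro w hw
      obtain ⟨i, hi⟩ := hcov (φ w)
      let W := φ ⁻¹ᵁ U i
      have hW : IsAffineOpen W := (hU i).preimage φ
      haveI : IsNoetherianRing Γ(Y', W) := IsLocallyNoetherian.component_noetherian ⟨W, hW⟩
      haveI : Module.Finite Γ(Y', W) Γ((Scheme.Modules.pullback φ).obj F, W) :=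
        (PPSheaf.pullback_sections φ hFq (hU i) hW le_rfl).1 inferInstance
      let r : C →+* Γ(Y', W) := (Y'.presheaf.map (homOfLE (le_top : W ≤ ⊤)).op).hom.comp (Coh.toGlobal pC)
      let M := Γ((Scheme.Modules.pullback φ).obj F, W)
      let m' : Ideal Γ(Y', W) := (IsLocalRing.maximalIdeal C).map r
      let P : Submodule Γ(Y', W) M := ⨅ n : ℕ, m' ^ n • ⊤
      obtain ⟨t, ht⟩ : P.FG := IsNoetherian.noetherian P
      choose! c hc using fun y (hy : y ∈ P) => (Ideal.mem_iInf_smul_pow_eq_bot_iff (I := m') y).1 hy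
      let e : Γ(Y', W) := ∏ y ∈ t, (1 - (c y : Γ(Y', W)))
      have he : ∀ y ∈ P, e • y = 0 := by
        intro y hy
        rw [← ht] at hy
        induction hy using Submodule.span_induction with
        | mem y hy =>
          have hyP : y ∈ P := ht ▸ Submodule.subset_span hy
          obtain ⟨d, hd⟩ := Finset.dvd_prod_of_mem (fun z => 1 - (c z : Γ(Y', W))) hy
          show (∏ z ∈ t, (1 - (c z : Γ(Y', W)))) • y = 0
          rw [hd, mul_comm, mul_smul, sub_smul, one_smul, hc y hyP, sub_self, smul_zero]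
        | zero => simp
        | add a b _ _ ha hb => rw [smul_add, ha, hb, add_zero]
        | smul a b _ hb => rw [smul_comm, hb, smul_zero]
      have hm : ∀ a ∈ m', w ∉ Y'.basicOpen a := by
        have hle : m' ≤ (hW.primeIdealOf ⟨w, hi⟩).asIdeal := by
          refine Ideal.map_le_iff_le_comap.2 fun a ha => ?_
          refine by_contra fun hna => ?_
          have h1 : w ∈ Y'.basicOpen (r a) := (mem_basicOpen_iff hW hi _).2 hna
          have h3 : pC w ∈ (Spec (CommRingCat.of C)).basicOpen ((Scheme.ΓSpecIso (CommRingCat.of C)).inv a) := by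
            have h4 : w ∈ Y'.basicOpen (pC.appLE ⊤ W (fun _ _ => trivial) ((Scheme.ΓSpecIso (CommRingCat.of C)).inv a)) := by
              rw [← appLE_eq_restrict_toGlobal]; exact h1
            exact ((FlatPt5.mem_basicOpen_appLE_iff pC _ _ w).1 h4).2
          rw [basicOpen_eq_of_affine, hw] at h3
          exact h3 ha
        intro a ha hwa
        exact (mem_basicOpen_iff hW hi _).1 hwa (hle ha)
      have hwe : w ∈ Y'.basicOpen e := by
        refine (mem_basicOpen_iff hW hi _).2 fun he' => ?_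
        obtain ⟨y, -, hy⟩ := (Ideal.IsPrime.prod_mem_iff (hp := (hW.primeIdealOf ⟨w, hi⟩).isPrime)).1 he'
        refine (hW.primeIdealOf ⟨w, hi⟩).isPrime.ne_top ((Ideal.eq_top_iff_one _).2 ?_)
        have hcy : (c y : Γ(Y', W)) ∈ (hW.primeIdealOf ⟨w, hi⟩).asIdeal :=
          by_contra fun hn => hm _ (c y).2 ((mem_basicOpen_iff hW hi _).2 hn)
        simpa using add_mem hy hcy
      refine ⟨Y'.basicOpen e, hwe, fun W' hW' y => app_eq_zero_of_le σ φ hG (hU i)
        ((Y'.basicOpen_le e)) (fun x => ?_) hW' y⟩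
      let y₀ := QCoh.pullSec φ F (le_rfl : W ≤ φ ⁻¹ᵁ U i) (σ.app (U i) x)
      have hy₀ : y₀ ∈ P := by
        refine (Submodule.mem_iInf _).2 fun n => ?_
        have h1 := pullSec_mem_smul hpb hFq (hU i) (σ.app (U i) x) _ (hC n i _ ⟨x, rfl⟩)
        rwa [Ideal.map_pow] at h1
      let N := (Scheme.Modules.pullback φ).obj F
      show QCoh.pullSec φ F (Y'.basicOpen_le e) (σ.app (U i) x) = 0
      rw [← pullSec_res φ (Y'.basicOpen_le e) le_rfl]
      have h5 : N.presheaf.map (homOfLE (Y'.basicOpen_le e)).op (e • y₀) = 0 := by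
        rw [he y₀ hy₀]; exact map_zero _
      rw [QCoh.map_smul'] at h5
      have hu : IsUnit (Y'.presheaf.map (homOfLE (Y'.basicOpen_le e)).op e) :=
        Y'.toRingedSpace.isUnit_res_basicOpen e
      exact hu.smul_eq_zero.1 h5
    refine hom_eq_zero_of_forall τ fun w => ?_
    by_contra hw
    have hcl : IsClosed (pC '' Zᶜ) := pC.isClosedMap _ hZo.isClosed_compl
    have hmem : IsLocalRing.closedPoint C ∈ pC '' Zᶜ :=
      (IsLocalRing.specializes_closedPoint (pC w)).mem_closed hcl ⟨w, hw, rfl⟩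
    obtain ⟨v, hv, hv'⟩ := hmem
    exact hv (hclosed v hv')
  obtain ⟨J, hJ, hmin⟩ := exists_least X (fun i => Γ(Y, U i)) hformal
  refine ⟨J, fun C _ _ Y' φ pC h => (hvan C Y' φ pC h).trans ((vanish_iff X C).trans ⟨hmin _, fun hle => ?_⟩)⟩
  exact fun i x hx => Submodule.smul_mono_left hle (hJ i x hx)

end Groth.Agent.VanLoc
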