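import Groth.Agent.VanLoc.Good
import Groth.Agent.GenFree.Basic

/-!
# Spreading out the least good ideal along an irreducible closed set
-/

set_option autoImplicit false
universe u

open TensorProduct

namespace Groth.Agent.VanLoc

/-- Coordinates making `N` free after a localisation of `A / q`. -/
theorem exists_coords {A : Type u} [CommRing A] [IsNoetherianRing A] (q : Ideal A) [q.IsPrime]
    (N : Type u) [AddCommGroup N] [Module A N] (B : Type u) [CommRing B] [Algebra A B] [Algebra.FiniteType A B]
    [Module B N] [IsScalarTower A B N] [Module.Finite B N] :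
    ∃ f : A ⧸ q, f ≠ 0 ∧ ∃ (κ : Type u), Nonempty (Module.Basis κ (Localization.Away f)
      (Localization.Away f ⊗[A] N)) := by
  classical
  let qB : Ideal B := q.map (algebraMap A B)
  let M := N ⧸ qB • (⊤ : Submodule B N)
  letI : Algebra (A ⧸ q) (B ⧸ qB) := Ideal.Quotient.algebraQuotientOfLEComap Ideal.le_comap_map
  haveI : IsScalarTower A (A ⧸ q) (B ⧸ qB) := IsScalarTower.of_algebraMap_eq fun a => rfl
  letI : Module (A ⧸ q) M := Module.compHom M (algebraMap (A ⧸ q) (B ⧸ qB))
  haveI : IsScalarTower (A ⧸ q) (B ⧸ qB) M := IsScalarTower.of_algebraMap_smul fun _ _ => rfl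
  haveI : Algebra.FiniteType (A ⧸ q) (B ⧸ qB) := Algebra.FiniteType.of_restrictScalars_finiteType A _ _
  haveI : Module.Finite (B ⧸ qB) M := by
    haveI : Module.Finite B M := inferInstance
    exact Module.Finite.of_restrictScalars_finite B _ _
  haveI : IsScalarTower A (A ⧸ q) M := IsScalarTower.of_algebraMap_smul fun a m => by
    show Ideal.Quotient.mk qB (algebraMap A B a) • m = a • m
    obtain ⟨m, rfl⟩ := Submodule.Quotient.mk_surjective _ m
    rw [← Submodule.Quotient.mk_smul, ← algebraMap_smul B a m]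
    rfl
  obtain ⟨f, hf, κ, φ, hφ, hr⟩ := GenFree.exists_gfree (R := A ⧸ q) (M := M) (B ⧸ qB)
  refine ⟨f, hf, κ, ⟨?_⟩⟩
  let E := Localization.Away f
  -- `A/q ⊗ N ≅ M`
  let e₀ : (A ⧸ q) ⊗[A] N ≃ₗ[A] M := (TensorProduct.quotTensorEquivQuotSMul N q).trans
    ((Submodule.quotEquivOfEq _ ((qB • (⊤ : Submodule B N)).restrictScalars A)
      (by rw [Ideal.smul_restrictScalars, Submodule.restrictScalars_top])).trans
      (Submodule.Quotient.restrictScalarsEquiv A (qB • (⊤ : Submodule B N))))
  let e₁ : (A ⧸ q) ⊗[A] N ≃ₗ[A ⧸ q] M :=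
    { e₀ with
      map_smul' := fun d z => by
        obtain ⟨a, rfl⟩ := Ideal.Quotient.mk_surjective d
        rw [RingHom.id_apply, ← Ideal.Quotient.algebraMap_eq, algebraMap_smul, algebraMap_smul]
        exact e₀.map_smul a z }
  let ψ : E ⊗[A ⧸ q] (κ →₀ A ⧸ q) →ₗ[E] E ⊗[A ⧸ q] M := TensorProduct.AlgebraTensorModule.lTensor E E φ
  have hψ : Function.Bijective ψ := by
    constructor
    · haveI : Module.Flat (A ⧸ q) E := IsLocalization.flat E (Submonoid.powers f)
      exact Module.Flat.lTensor_preserves_injective_linearMap φ hφ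
    · intro z
      induction z using TensorProduct.induction_on with
      | zero => exact ⟨0, map_zero _⟩
      | add a b ha hb =>
        obtain ⟨a', rfl⟩ := ha
        obtain ⟨b', rfl⟩ := hb
        exact ⟨a' + b', map_add _ _ _⟩
      | tmul c m =>
        obtain ⟨n, w, hw⟩ := hr m
        obtain ⟨u, hu⟩ : IsUnit (algebraMap (A ⧸ q) E f ^ n) :=
          (IsLocalization.Away.algebraMap_isUnit f).pow n
        refine ⟨(c * ↑u⁻¹) ⊗ₜ w, ?_⟩
        show (c * ↑u⁻¹) ⊗ₜ φ w = c ⊗ₜ m
        rw [hw, ← TensorProduct.smul_tmul, Algebra.smul_def, map_pow, ← hu, mul_left_comm, Units.mul_inv, mul_one]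
  exact ((Algebra.TensorProduct.basis E (Finsupp.basisSingleOne (R := A ⧸ q) (ι := κ))).map
    (LinearEquiv.ofBijective ψ hψ)).map
    ((TensorProduct.AlgebraTensorModule.congr (LinearEquiv.refl E E) e₁.symm).trans
      (TensorProduct.AlgebraTensorModule.cancelBaseChange A (A ⧸ q) E E N))

/-- Vanishing in `κ ⊗ N` is read off the coordinates. -/
theorem eq_zero_iff_coords {A : Type u} [CommRing A] {E : Type u} [CommRing E] [Algebra A E] {N : Type u}
    [AddCommGroup N] [Module A N] {κ : Type u} (b : Module.Basis κ E (E ⊗[A] N)) (F : Type u) [CommRing F]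
    [Algebra A F] [Algebra E F] [IsScalarTower A E F] {r : ℕ} (v : Fin r → F) (n : Fin r → N) :
    ∑ j, v j ⊗ₜ[A] n j = 0 ↔ ∀ l, ∑ j, v j * algebraMap E F (b.repr (1 ⊗ₜ n j) l) = 0 := by
  let c := TensorProduct.AlgebraTensorModule.cancelBaseChange A E F F N
  let bF := Algebra.TensorProduct.basis F b
  have hz : ∑ j, v j ⊗ₜ[A] n j = c (∑ j, v j ⊗ₜ[E] ((1 : E) ⊗ₜ[A] n j)) := by
    simp [c, map_sum]
  rw [hz, map_eq_zero_iff _ c.injective, ← map_eq_zero_iff _ bF.repr.injective, Finsupp.ext_iff]
  refine forall_congr' fun l => ?_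
  simp [bF, map_sum, Finsupp.finsetSum_apply]

variable {A : Type u} [CommRing A] [IsNoetherianRing A] {ι : Type u} [Finite ι] {N : ι → Type u}
  [∀ i, AddCommGroup (N i)] [∀ i, Module A (N i)] (X : ∀ i, Set (N i)) [∀ i, Module.Flat A (N i)]
  (B : ι → Type u) [∀ i, CommRing (B i)] [∀ i, Algebra A (B i)] [∀ i, Algebra.FiniteType A (B i)]
  [∀ i, Module (B i) (N i)] [∀ i, IsScalarTower A (B i) (N i)] [∀ i, Module.Finite (B i) (N i)]

include B in
theorem exists_spread (q : Ideal A) [q.IsPrime] (K : Ideal A) (hK : Good X K) (hm : MinAt X q K) :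
    ∃ f ∉ q, ∀ (p : Ideal A) [p.IsPrime], q ≤ p → f ∉ p → MinAt X p K := by
  classical
  cases nonempty_fintype ι
  choose g hg κ hb using fun i => exists_coords q (N i) (B i)
  let g₀ : A ⧸ q := ∏ i, g i
  have hg₀ : g₀ ≠ 0 := Finset.prod_ne_zero_iff.2 fun i _ => hg i
  obtain ⟨f₀, hf₀⟩ := Ideal.Quotient.mk_surjective g₀
  obtain ⟨r, π, hπ⟩ := Module.Finite.exists_fin' A K
  let e : Fin r → K := fun j => π (Pi.single j 1)
  have hπe : ∀ v, π v = ∑ j, v j • e j := fun v => by
    simp only [e, ← map_smul, ← map_sum]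
    congr 1
    ext k
    simp [Finset.sum_apply, Pi.single_apply]
  -- every tensor is a combination of the generators
  have hrep : ∀ (i) (t : K ⊗[A] N i), ∃ n : Fin r → N i, t = ∑ j, e j ⊗ₜ n j := fun i t => by
    induction t using TensorProduct.induction_on with
    | zero => exact ⟨0, by simp⟩
    | add a b ha hb =>
      obtain ⟨n, rfl⟩ := ha
      obtain ⟨n', rfl⟩ := hb
      exact ⟨n + n', by simp [TensorProduct.tmul_add, Finset.sum_add_distrib]⟩
    | tmul k m =>
      obtain ⟨v, rfl⟩ := hπ k
      exact ⟨fun j => v j • m, by simp [hπe, TensorProduct.sum_tmul, TensorProduct.smul_tmul]⟩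
  choose co hco using hrep
  let b := fun i => (hb i).some
  let nu : ∀ i, Localization.Away (g i) →+* Localization.Away g₀ := fun i =>
    IsLocalization.Away.lift (g i) (g := algebraMap (A ⧸ q) (Localization.Away g₀))
      (isUnit_of_dvd_unit (map_dvd _ (Finset.dvd_prod_of_mem g (Finset.mem_univ i)))
        (IsLocalization.Away.algebraMap_isUnit g₀))
  let E := Localization.Away g₀
  -- the rows
  let Rows : Set (Fin r → E) :=
    {w | ∃ v : Fin r → A, π v = 0 ∧ w = fun j => algebraMap A E (v j)} ∪
    {w | ∃ (i : ι) (t : K ⊗[A] N i) (l : κ i), mulK K (N i) t ∈ X i ∧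
      w = fun j => nu i ((b i).repr (1 ⊗ₜ co i t j) l)}
  have hnu : ∀ i, (nu i).comp (algebraMap A (Localization.Away (g i))) = algebraMap A E := fun i => by
    ext a
    show nu i (algebraMap A (Localization.Away (g i)) a) = _
    rw [IsScalarTower.algebraMap_apply A (A ⧸ q), IsLocalization.Away.lift_eq, ← IsScalarTower.algebraMap_apply]
  -- a form kills the elements iff it is orthogonal to the rows
  have horth : ∀ (p : Ideal A) [p.IsPrime] (ε : E →+* p.ResidueField), ε.comp (algebraMap A E) = algebraMap A p.ResidueField →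
      ((Detect X p K) ↔ ∀ v : Fin r → p.ResidueField, (∀ w ∈ Rows, ∑ j, v j * ε (w j) = 0) → v = 0) := by
    intro p _ ε hε
    have key : ∀ (lam : K →ₗ[A] p.ResidueField) (i : ι) (t : K ⊗[A] N i),
        lam.rTensor (N i) t = 0 ↔ ∀ l, ∑ j, lam (e j) * ε (nu i ((b i).repr (1 ⊗ₜ co i t j) l)) = 0 := by
      intro lam i t
      letI : Algebra (Localization.Away (g i)) p.ResidueField := (ε.comp (nu i)).toAlgebra
      haveI : IsScalarTower A (Localization.Away (g i)) p.ResidueField :=
        IsScalarTower.of_algebraMap_eq' (by rw [RingHom.algebraMap_toAlgebra, RingHom.comp_assoc, hnu, hε])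
      have := eq_zero_iff_coords (b i) p.ResidueField (fun j => lam (e j)) (co i t)
      refine Iff.trans ?_ this
      conv_lhs => rw [hco i t]
      simp [map_sum]
    have hsmul : ∀ (a : A) (z : p.ResidueField), a • z = z * ε (algebraMap A E a) := fun a z => by
      rw [Algebra.smul_def, ← hε, mul_comm]; rfl
    constructor
    · intro hd v hv
      let L : (Fin r → A) →ₗ[A] p.ResidueField := Fintype.linearCombination A v
      have hL : ∀ w, L w = ∑ j, v j * ε (algebraMap A E (w j)) := fun w => by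
        simp [L, Fintype.linearCombination_apply, hsmul]
      have hker : LinearMap.ker π ≤ LinearMap.ker L := fun w hw => by
        rw [LinearMap.mem_ker, hL]
        exact hv _ (Or.inl ⟨w, hw, rfl⟩)
      let lam : K →ₗ[A] p.ResidueField :=
        ((LinearMap.ker π).liftQ L hker).comp (π.quotKerEquivOfSurjective hπ).symm.toLinearMap
      have hlam : ∀ j, lam (e j) = v j := fun j => by
        have : (π.quotKerEquivOfSurjective hπ).symm (e j) = Submodule.Quotient.mk (Pi.single j 1) := by
          rw [LinearEquiv.symm_apply_eq]; rfl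
        simp [lam, this, L, Fintype.linearCombination_apply, Pi.single_apply]
      have h0 := hd lam fun i t ht => (key lam i t).2 fun l => by
        simp only [hlam]
        exact hv _ (Or.inr ⟨i, t, l, ht, rfl⟩)
      funext j
      rw [← hlam j, h0]; rfl
    · intro h lam hlam
      have hv := h (fun j => lam (e j)) ?_
      · refine LinearMap.ext fun k => ?_
        obtain ⟨v, rfl⟩ := hπ k
        rw [hπe, map_sum, LinearMap.zero_apply]
        exact Finset.sum_eq_zero fun j _ => by rw [map_smul, congrFun hv j]; simp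
      · rintro w (⟨v, hv, rfl⟩ | ⟨i, t, l, ht, rfl⟩)
        · have h1 : ∑ j, lam (v j • e j) = 0 := by rw [← map_sum, ← hπe, hv, map_zero]
          simpa [hsmul] using h1
        · exact (key lam i t).1 (hlam i t ht) l
  -- the residue field at `q`
  have hεp : ∀ (p : Ideal A) [p.IsPrime], q ≤ p → f₀ ∉ p → ∃ ε : E →+* p.ResidueField,
      ε.comp (algebraMap A E) = algebraMap A p.ResidueField := by
    intro p _ hqp hfp
    let ε₀ : A ⧸ q →+* p.ResidueField := Ideal.Quotient.lift q (algebraMap A p.ResidueField)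
      fun a ha => Ideal.algebraMap_residueField_eq_zero.2 (hqp ha)
    have hu : IsUnit (ε₀ g₀) := by
      rw [← hf₀]
      exact Ne.isUnit fun h => hfp (Ideal.algebraMap_residueField_eq_zero.1 h)
    refine ⟨IsLocalization.Away.lift g₀ hu, RingHom.ext fun a => ?_⟩
    rw [RingHom.comp_apply, IsScalarTower.algebraMap_apply A (A ⧸ q) E, IsLocalization.Away.lift_eq]
    rfl
  have hf₀q : f₀ ∉ q := fun h => hg₀ (hf₀ ▸ Ideal.Quotient.eq_zero_iff_mem.2 h)
  obtain ⟨εq, hεq⟩ := hεp q le_rfl hf₀q
  have hεq' : ∀ a, εq (algebraMap A E a) = algebraMap A q.ResidueField a := RingHom.congr_fun hεq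
  have hnum : ∀ c : E, εq c = 0 → c = 0 := by
    intro c hc
    obtain ⟨⟨a, s⟩, has⟩ := IsLocalization.surj (Submonoid.powers g₀) c
    obtain ⟨a, rfl⟩ := Ideal.Quotient.mk_surjective a
    have h1 := congrArg εq has
    rw [map_mul, hc, zero_mul] at h1
    have h2 : algebraMap A q.ResidueField a = 0 := by
      rw [← hεq', IsScalarTower.algebraMap_apply A (A ⧸ q) E, Ideal.Quotient.algebraMap_eq]
      exact h1.symm
    rw [Ideal.Quotient.eq_zero_iff_mem.2 (Ideal.algebraMap_residueField_eq_zero.1 h2), map_zero] at has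
    exact (IsUnit.mul_left_eq_zero (IsLocalization.map_units E s)).1 has
  have horthq := (horth q εq hεq).1 (detect_of_minAt X hK hm)
  -- clearing denominators
  let M := Submodule.span E Rows
  let imq : (Fin r → E) → (Fin r → q.ResidueField) := fun w j => εq (w j)
  let S : Submodule q.ResidueField (Fin r → q.ResidueField) :=
    { carrier := {x | ∃ a ∉ q, ∃ w ∈ M, algebraMap A q.ResidueField a • x = imq w}
      zero_mem' := ⟨1, fun h => ‹q.IsPrime›.ne_top ((Ideal.eq_top_iff_one _).2 h), 0, M.zero_mem,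
        funext fun j => by simp [imq]⟩
      add_mem' := by
        rintro x y ⟨a, ha, w, hw, hx⟩ ⟨a', ha', w', hw', hy⟩
        refine ⟨a * a', fun h => (‹q.IsPrime›.mem_or_mem h).elim ha ha',
          algebraMap A E a' • w + algebraMap A E a • w',
          M.add_mem (M.smul_mem _ hw) (M.smul_mem _ hw'), funext fun j => ?_⟩
        have h1 := congrFun hx j
        have h2 := congrFun hy j
        simp only [imq, Pi.smul_apply, Pi.add_apply, smul_eq_mul, map_add, map_mul, hεq'] at h1 h2 ⊢
        rw [← h1, ← h2]; ring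
      smul_mem' := by
        rintro c x ⟨a, ha, w, hw, hx⟩
        obtain ⟨⟨d, s⟩, hds⟩ := IsLocalization.surj (nonZeroDivisors (A ⧸ q)) c
        obtain ⟨d, rfl⟩ := Ideal.Quotient.mk_surjective d
        obtain ⟨s', hs'⟩ := Ideal.Quotient.mk_surjective (s : A ⧸ q)
        have hsq : s' ∉ q := fun h => nonZeroDivisors.coe_ne_zero s (hs' ▸ Ideal.Quotient.eq_zero_iff_mem.2 h)
        refine ⟨a * s', fun h => (‹q.IsPrime›.mem_or_mem h).elim ha hsq, algebraMap A E d • w,
          M.smul_mem _ hw, funext fun j => ?_⟩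
        have h1 := congrFun hx j
        have e1 : c * algebraMap A q.ResidueField s' = algebraMap A q.ResidueField d := by
          rw [IsScalarTower.algebraMap_apply A (A ⧸ q) q.ResidueField,
            IsScalarTower.algebraMap_apply A (A ⧸ q) q.ResidueField, Ideal.Quotient.algebraMap_eq, hs']
          exact hds
        simp only [imq, Pi.smul_apply, smul_eq_mul, map_mul, hεq'] at h1 ⊢
        rw [← h1, ← e1]; ring }
  have hRowsS : ∀ w ∈ Rows, imq w ∈ S := fun w hw =>
    ⟨1, fun h => ‹q.IsPrime›.ne_top ((Ideal.eq_top_iff_one _).2 h), w, Submodule.subset_span hw,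
      funext fun j => by simp [imq]⟩
  have hS : S = ⊤ := by
    by_contra hne
    obtain ⟨φ, hφ, hφS⟩ := Submodule.exists_dual_map_eq_bot_of_lt_top (lt_top_iff_ne_top.2 hne) inferInstance
    have hφ0 : ∀ x ∈ S, φ x = 0 := fun x hx => by
      have : φ x ∈ S.map φ := Submodule.mem_map_of_mem hx
      rwa [hφS, Submodule.mem_bot] at this
    refine hφ (LinearMap.ext fun x => ?_)
    have hv := horthq (fun j => φ (Pi.single j 1)) fun w hw => by
      rw [← hφ0 _ (hRowsS w hw), LinearMap.pi_apply_eq_sum_univ φ (imq w)]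
      refine Finset.sum_congr rfl fun j _ => ?_
      rw [smul_eq_mul, mul_comm]
      congr 2
      ext k
      simp [Pi.single_apply, eq_comm]
    rw [LinearMap.pi_apply_eq_sum_univ φ x, LinearMap.zero_apply]
    refine Finset.sum_eq_zero fun j _ => ?_
    have : (fun k => if j = k then (1 : q.ResidueField) else 0) = Pi.single j 1 := by
      ext k; simp [Pi.single_apply, eq_comm]
    rw [this, show φ (Pi.single j 1) = 0 from congrFun hv j, smul_zero]
  choose a ha w hw haw using fun j => (hS ▸ Submodule.mem_top : Pi.single j (1 : q.ResidueField) ∈ S)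
  refine ⟨f₀ * ∏ j, a j, fun h => (‹q.IsPrime›.mem_or_mem h).elim hf₀q
    fun h => ?_, fun p _ hqp hfp => ?_⟩
  · obtain ⟨j, -, hj⟩ := (Ideal.IsPrime.prod_mem_iff (hp := ‹q.IsPrime›)).1 h
    exact ha j hj
  obtain ⟨ε, hε⟩ := hεp p hqp fun h => hfp (Ideal.mul_mem_right _ _ h)
  refine minAt_of_detect X hK ((horth p ε hε).2 fun v hv => funext fun k => ?_)
  have hwk : w k = Pi.single k (algebraMap A E (a k)) := funext fun j => by
    refine sub_eq_zero.1 (hnum _ ?_)
    have h1 := congrFun (haw k) j
    simp only [imq, Pi.smul_apply, smul_eq_mul] at h1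
    rw [map_sub, ← h1, sub_eq_zero]
    rcases eq_or_ne j k with rfl | h
    · simp [hεq']
    · simp [Pi.single_eq_of_ne h]
  have hM : ∀ x ∈ M, ∑ j, v j * ε (x j) = 0 := fun x hx => by
    induction hx using Submodule.span_induction with
    | mem x hx => exact hv x hx
    | zero => simp
    | add x y _ _ hx hy => simp [mul_add, Finset.sum_add_distrib, hx, hy]
    | smul c x _ hx =>
      rw [show ∑ j, v j * ε ((c • x) j) = ε c * ∑ j, v j * ε (x j) by
        rw [Finset.mul_sum]; exact Finset.sum_congr rfl fun j _ => by simp [mul_left_comm], hx, mul_zero]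
  have h2 := hM _ (hw k)
  rw [Finset.sum_eq_single k, hwk, Pi.single_eq_same] at h2
  · rw [show ε (algebraMap A E (a k)) = algebraMap A p.ResidueField (a k) from RingHom.congr_fun hε _] at h2
    refine (mul_eq_zero.1 h2).resolve_right fun h => hfp ?_
    exact Ideal.mul_mem_left _ _ ((Ideal.IsPrime.prod_mem_iff (hp := ‹p.IsPrime›)).2
      ⟨k, Finset.mem_univ _, Ideal.algebraMap_residueField_eq_zero.1 h⟩)
  · intro j _ hj; rw [hwk, Pi.single_eq_of_ne hj, map_zero, mul_zero]
  · intro h; exact absurd (Finset.mem_univ k) h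

end Groth.Agent.VanLoc
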